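import Groth.Agent.SGA3x.K11.FactNoeth
import Groth.Agent.GrpQ.H773.Orbit
import Groth.Agent.GrpQ.H774.KerQuot
import Groth.Prelude.Def_RedSub

/-!
# Quotients by flat stabilizers and by flat kernels

* `exists_quotient_stab`: `G/H` for the flat stabilizer `H` of a section of an `S`-scheme `X` which is locally
  of finite type, or arbitrary if `S` is locally Noetherian;
* `exists_quotient_ker`: `G/K` for the flat kernel `K` of a homomorphism.
-/

set_option autoImplicit false

universe u

open CategoryTheory MonoidalCategory CartesianMonoidalCategory MonObj GrpObj AlgebraicGeometry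
  CategoryTheory.Limits

namespace K11.QuotOrbit

open Groth.Agent.GrpQ.H773.HasFact Groth.Agent.GrpQ.H773.Orbit

variable {S : Scheme.{u}} {G X : Over S} [GrpObj G] (a : AlgGrp.Action G X)

/-- Two points have the same orbit image iff they differ by a point of the stabilizer. -/
theorem isPullback_orbit (ξ : 𝟙_ (Over S) ⟶ X) {H : Over S} (h : H ⟶ G)
    (hH : IsPullback h (toUnit H) (a.orbitMap ξ) ξ) :
    IsPullback (fst G H) ((G ◁ h) ≫ μ[G]) (a.orbitMap ξ) (a.orbitMap ξ) := by
  have hstab : ∀ {T : Over S} (z : T ⟶ H), (z ≫ h) ≫ a.orbitMap ξ = toUnit T ≫ ξ := by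
    intro T z
    rw [Category.assoc, hH.w, ← Category.assoc]
    congr 1
    exact toUnit_unique _ _
  have hmul : ∀ {T : Over S} (z : T ⟶ G ⊗ H),
      z ≫ (G ◁ h) ≫ μ[G] = (z ≫ fst _ _) * (z ≫ snd _ _ ≫ h) := by
    intro T z
    have hz : z = lift (z ≫ fst _ _) (z ≫ snd _ _) := by
      apply CartesianMonoidalCategory.hom_ext <;> simp
    conv_lhs => rw [hz]
    rw [lift_whiskerLeft_assoc, Category.assoc]
    rfl
  have hw : ∀ {T : Over S} (z : T ⟶ G ⊗ H),
      (z ≫ (G ◁ h) ≫ μ[G]) ≫ a.orbitMap ξ = (z ≫ fst _ _) ≫ a.orbitMap ξ := by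
    intro T z
    have h1 := hstab (z ≫ snd _ _)
    rw [comp_orbitMap] at h1
    rw [hmul, comp_orbitMap, comp_orbitMap, lift_mul_act]
    rw [Category.assoc] at h1
    rw [h1]
  refine IsPullback.flip ⟨⟨?_⟩, ⟨PullbackCone.IsLimit.mk _
    (fun c => lift c.snd (hH.lift (c.snd⁻¹ * c.fst) (toUnit _) ?_)) ?_ ?_ ?_⟩⟩
  · have := hw (𝟙 _)
    simpa only [Category.id_comp] using this
  · rw [comp_orbitMap, lift_mul_act, ← comp_orbitMap, c.condition, comp_orbitMap, ← lift_mul_act,
      inv_mul_cancel, lift_one_act]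
  · intro c
    rw [hmul, lift_fst, lift_snd_assoc, hH.lift_fst, mul_inv_cancel_left]
  · intro c
    rw [lift_fst]
  · intro c m h1 h2
    apply CartesianMonoidalCategory.hom_ext
    · rw [lift_fst, h2]
    · rw [lift_snd]
      apply hH.hom_ext
      · rw [hH.lift_fst, Category.assoc]
        rw [hmul] at h1
        rw [← h1, ← h2, inv_mul_cancel_left]
      · exact toUnit_unique _ _

/-- **Quotients by flat stabilizers.** -/
theorem exists_quotient_stab [LocallyOfFinitePresentation G.hom] (ξ : 𝟙_ (Over S) ⟶ X) (H : Over S)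
    (h : H ⟶ G) (hH : IsPullback h (toUnit H) (a.orbitMap ξ) ξ) [Flat H.hom]
    (hX : LocallyOfFiniteType X.hom ∨ IsLocallyNoetherian S) :
    ∃ (Q : Over S) (q : G ⟶ Q) (m : Q ⟶ X), q ≫ m = a.orbitMap ξ ∧ Surjective q.left ∧ Flat q.left ∧
      LocallyOfFinitePresentation q.left ∧ Mono m ∧ LocallyOfFinitePresentation Q.hom ∧
      IsPullback (fst G H) ((G ◁ h) ≫ μ[G]) q q := by
  have hpb := isPullback_orbit a ξ h hH
  have hpb' : IsPullback (fst G H).left ((G ◁ h) ≫ μ[G]).left (a.orbitMap ξ).left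
      (a.orbitMap ξ).left := hpb.map (Over.forget S)
  have hfst : Flat (fst G H).left := by
    have : (fst G H).left = pullback.fst G.hom H.hom := rfl
    rw [this]
    infer_instance
  have hfl : Flat (pullback.fst (a.orbitMap ξ).left (a.orbitMap ξ).left) := by
    rw [← hpb'.isoPullback_inv_fst]
    infer_instance
  have hF : HasFact (a.orbitMap ξ).left := by
    rcases hX with hX | hX
    · have hlfp : LocallyOfFinitePresentation (a.orbitMap ξ).left := by
        have : LocallyOfFinitePresentation ((a.orbitMap ξ).left ≫ X.hom) := by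
          rw [Over.w]; infer_instance
        exact Groth.Agent.Ega43.FPOfComp.locallyOfFinitePresentation_of_comp (a.orbitMap ξ).left X.hom
      exact Groth.Agent.GrpQ.H773.Main.hasFact _
    · have : LocallyOfFiniteType ((a.orbitMap ξ).left ≫ X.hom) := by
        rw [Over.w]; infer_instance
      exact FactNoeth.hasFact X.hom _
  obtain ⟨Z, g, j, h1, h2, h3, h4, h5⟩ := hF
  let Q : Over S := Over.mk (j ≫ X.hom)
  let p : G ⟶ Q := Over.homMk g (by
    change g ≫ j ≫ X.hom = G.hom
    rw [← Category.assoc, h5, Over.w])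
  let i : Q ⟶ X := Over.homMk j rfl
  have hpi : p ≫ i = a.orbitMap ξ := by
    ext1
    exact h5
  have hi : Mono i := by
    have : Mono i.left := h4
    exact Over.mono_of_mono_left i
  refine ⟨Q, p, i, hpi, h1, h2, h3, hi, ?_, ?_⟩
  · have : LocallyOfFinitePresentation (g ≫ j ≫ X.hom) := by
      rw [← Category.assoc, h5, Over.w]; infer_instance
    exact Groth.Agent.S0114.result g (j ≫ X.hom)
  · refine isPullback_of_comp_mono (i := i) ?_
    rw [hpi]
    exact hpb

/-- The action of `G` on `H` by left translations through a homomorphism. -/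
noncomputable def transAction {H : Over S} [GrpObj H] (u : G ⟶ H) [IsMonHom u] : AlgGrp.Action G H where
  act := (fst G H ≫ u) * snd G H
  one_act := by
    rw [comp_mul, whiskerRight_fst_assoc, IsMonHom.one_hom, whiskerRight_snd]
    have h : fst (𝟙_ (Over S)) H ≫ η[H] = 1 := by
      change _ = toUnit _ ≫ η[H]
      congr 1
    rw [h, _root_.one_mul, leftUnitor_hom]
  mul_act := by
    have h1 : μ[G] = fst G G * snd G G := by
      rw [Hom.mul_def, lift_fst_snd, Category.id_comp]
    simp only [comp_mul, whiskerRight_fst_assoc, whiskerRight_snd, whiskerLeft_fst_assoc,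
      whiskerLeft_snd, h1, mul_comp, associator_hom_fst_assoc,
      associator_hom_snd_fst_assoc, associator_hom_snd_snd, _root_.mul_assoc]

theorem transAction_orbitMap {H : Over S} [GrpObj H] (u : G ⟶ H) [IsMonHom u] :
    (transAction u).orbitMap η[H] = u := by
  have h1 : toUnit G ≫ η[H] = 1 := rfl
  rw [AlgGrp.Action.orbitMap, transAction, comp_mul, lift_fst_assoc, lift_snd, Category.id_comp, h1,
    _root_.mul_one]

/-- **Quotients by flat kernels.** -/
theorem exists_quotient_ker {H : Over S} [GrpObj H] [LocallyOfFinitePresentation G.hom]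
    (hH : LocallyOfFiniteType H.hom ∨ IsLocallyNoetherian S) (u : G ⟶ H) [IsMonHom u]
    (K : Over S) (k : K ⟶ G) (hK : AlgGrp.IsKernel k u) [Flat K.hom] :
    ∃ (Q : Over S) (_ : GrpObj Q) (q : G ⟶ Q) (_ : IsMonHom q) (m : Q ⟶ H) (_ : IsMonHom m),
      q ≫ m = u ∧ Surjective q.left ∧ Flat q.left ∧
      LocallyOfFinitePresentation q.left ∧ Mono m ∧ LocallyOfFinitePresentation Q.hom ∧
      IsPullback (fst G K) ((G ◁ k) ≫ μ[G]) q q := by
  obtain ⟨Q, q, m, hqm, h1, h2, h3, h4, h5, h6⟩ := exists_quotient_stab (transAction u) η[H] K k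
    (by rw [transAction_orbitMap]; exact hK) hH
  rw [transAction_orbitMap] at hqm
  obtain ⟨g, hq, hm, -⟩ := Groth.Agent.GrpQ.H774.KerQuot.exists_grpObj G H Q u q m hqm
  exact ⟨Q, g, q, hq, m, hm, hqm, h1, h2, h3, h4, h5, h6⟩

end K11.QuotOrbit
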