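import Groth.Agent.SGA3x.K5.Clopen
import Groth.Agent.SGA3x.K14.FpqcExt
import Groth.Agent.SGA3x.K10.MTLoc
import Groth.Agent.Sga3B.Par.CanRig
import Groth.Agent.Sga3.H140.QuotQC
import Groth.Agent.GIT.K686.Whisk

/-!
# Extensions by groups of multiplicative type

* `mul_comm'`: groups of multiplicative type are commutative;
* `eq_fst_of_isHomFamily`: an action by group automorphisms of a group with connected fibres on a group of
  multiplicative type is trivial (a family of endomorphisms which is the identity at the unit section);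
* `central`: an extension of a group with connected fibres by a group of multiplicative type is central.
-/

set_option autoImplicit false
universe u
open CategoryTheory MonoidalCategory CartesianMonoidalCategory MonObj GrpObj AlgebraicGeometry Limits

namespace K11.ExtMT

variable {S : Scheme.{u}}

/-- Groups of multiplicative type are commutative. -/
theorem mul_comm' {H : Over S} [GrpObj H] (hH : SGA3x.IsMultTypeFT H) {X : Over S} (a b : X ⟶ H) :
    a * b = b * a := by
  refine K14.FpqcExt.eq_of_flat_cover _ _ fun s => ?_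
  obtain ⟨B, _, v, M, _, hv, hs, -, ⟨e⟩⟩ := K10.MTLoc.exists_etale_split hH s
  refine ⟨_, v, inferInstance, hs, ?_⟩
  have hcomm : ∀ {T : Over (Spec (CommRingCat.of B))} (x y : T ⟶ Red.bc v H), x * y = y * x := by
    intro T x y
    let ε : Red.bc v H ≅ Red.DS (Spec (CommRingCat.of B)) M := (Grp.forget _).mapIso e
    have hε : IsMonHom ε.hom := inferInstanceAs (IsMonHom e.hom.hom.hom)
    have h1 : (x * y) ≫ ε.hom = (x ≫ ε.hom) * (y ≫ ε.hom) := MonObj.mul_comp x y ε.hom
    have h2 : (y * x) ≫ ε.hom = (y ≫ ε.hom) * (x ≫ ε.hom) := MonObj.mul_comp y x ε.hom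
    rw [← cancel_mono ε.hom, h1, h2]
    exact Groth.Agent.Sga3B.Par.CanRig.ds_mul_comm _ _
  rw [Functor.map_mul, Functor.map_mul]
  exact hcomm _ _

/-- A family of endomorphisms of a group of multiplicative type, parametrised by a scheme with connected
fibres and a section at which the family is the identity, is trivial. -/
theorem eq_fst_of_isHomFamily {H U : Over S} [GrpObj H] (hH : SGA3x.IsMultTypeFT H)
    (hU : ∀ s : S, _root_.IsConnected (U.hom.base ⁻¹' {s})) (ε : 𝟙_ (Over S) ⟶ U) (θ : H ⊗ U ⟶ H)
    (hθ : AutFam.IsHomFamily H H θ)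
    (hε : ∀ (T : Over S) (h : T ⟶ H), lift h (toUnit T ≫ ε) ≫ θ = h) : θ = fst H U := by
  have hfst : AutFam.IsHomFamily H H (fst H U) := fun X g₁ g₂ t => by
    rw [lift_fst, lift_fst, lift_fst]
  obtain ⟨C, hC, hCiff⟩ := Groth.Agent.SGA3x.K5.Clopen.exists_clopen_fam hH hH hθ hfst
  have h1 : Set.range ε.left ⊆ (C : Set U.left) := by
    refine (hCiff _ ε).1 fun T' b q => ?_
    rw [toUnit_unique b (toUnit T'), hε, lift_fst]
  have h2 : (C : Set U.left) = Set.univ := by
    rw [Set.eq_univ_iff_forall]
    intro x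
    have hcl : IsClopen (C : Set U.left) := ⟨hC, C.2⟩
    let s := U.hom x
    have hs : ε.left s ∈ U.hom.base ⁻¹' {s} := by
      have h3 : ε.left ≫ U.hom = 𝟙 S := Over.w ε
      change U.hom (ε.left s) = s
      rw [← Scheme.Hom.comp_apply, h3]
      rfl
    exact (hU s).isPreconnected.subset_isClopen hcl ⟨_, hs, h1 ⟨s, rfl⟩⟩ (show x ∈ _ from rfl)
  have h3 := (hCiff (H ⊗ U) (snd H U)).2 (by rw [h2]; exact Set.subset_univ _) (H ⊗ U) (𝟙 _) (fst H U)
  rwa [Category.id_comp, lift_fst_snd, Category.id_comp, Category.id_comp] at h3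

/-- An extension of a group with connected fibres by a group of multiplicative type is central. -/
theorem central (E H U : Over S) [GrpObj E] [GrpObj H] [GrpObj U]
    (p : E ⟶ U) [IsMonHom p] [Surjective p.left] [Flat p.left] [QuasiCompact p.left]
    (i : H ⟶ E) [IsMonHom i] (hker : AlgGrp.IsKernel i p) (hH : SGA3x.IsMultTypeFT H)
    (hU : ∀ s : S, _root_.IsConnected (U.hom.base ⁻¹' {s})) :
    ∀ (X : Over S) (h : X ⟶ H) (e : X ⟶ E), (h ≫ i) * e = e * (h ≫ i) := by
  have hip : ∀ {T : Over S} (a : T ⟶ H), a ≫ i ≫ p = 1 := by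
    intro T a
    rw [hker.w, ← Category.assoc]
    change (a ≫ toUnit H) ≫ η[U] = toUnit T ≫ η[U]
    congr 1
    exact toUnit_unique _ _
  have hlift : ∀ {T : Over S} (a : T ⟶ E), a ≫ p = 1 → ∃ b : T ⟶ H, b ≫ i = a := by
    intro T a ha
    refine ⟨hker.lift a (toUnit T) ha, hker.lift_fst _ _ _⟩
  have hmono : Mono i := by
    have : Mono (η[U] : 𝟙_ (Over S) ⟶ U) := ⟨fun a b _ => toUnit_unique _ _⟩
    exact MorphismProperty.of_isPullback (P := MorphismProperty.monomorphisms (Over S)) hker.flip
      (MorphismProperty.monomorphisms.infer_property _)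
  -- conjugation
  obtain ⟨c, hc⟩ := hlift (T := H ⊗ E) (snd H E * (fst H E ≫ i) * (snd H E)⁻¹) (by
    rw [mul_comp, mul_comp, inv_comp, Category.assoc, hip, _root_.mul_one, mul_inv_cancel])
  have hcT : ∀ {T : Over S} (h : T ⟶ H) (e : T ⟶ E), lift h e ≫ c ≫ i = e * (h ≫ i) * e⁻¹ := by
    intro T h e
    rw [hc, comp_mul, comp_mul, comp_inv, lift_snd, lift_fst_assoc]
  have hw1 := K686.Whisk.isPullback_whiskerLeft_left p H
  have f1 : Flat (H ◁ p).left := MorphismProperty.of_isPullback (P := @Flat) hw1.flip inferInstance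
  have f2 : Surjective (H ◁ p).left :=
    MorphismProperty.of_isPullback (P := @Surjective) hw1.flip inferInstance
  have f3 : QuasiCompact (H ◁ p).left :=
    MorphismProperty.of_isPullback (P := @QuasiCompact) hw1.flip inferInstance
  obtain ⟨θ, hθ⟩ := Groth.Agent.Sga3.H140.QuotQC.exists_desc (H ◁ p) c (by
    intro T x y hxy
    have e1 : x ≫ fst H E = y ≫ fst H E := by
      have := congrArg (fun z => z ≫ fst H U) hxy
      simpa using this
    have e2 : (x ≫ snd H E) ≫ p = (y ≫ snd H E) ≫ p := by
      have := congrArg (fun z => z ≫ snd H U) hxy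
      simpa using this
    have hx : x = lift (x ≫ fst H E) (x ≫ snd H E) := by
      apply CartesianMonoidalCategory.hom_ext <;> simp
    have hy : y = lift (y ≫ fst H E) (y ≫ snd H E) := by
      apply CartesianMonoidalCategory.hom_ext <;> simp
    obtain ⟨k, hk⟩ := hlift ((y ≫ snd H E)⁻¹ * (x ≫ snd H E)) (by
      rw [mul_comp, inv_comp, e2, inv_mul_cancel])
    have hk' : x ≫ snd H E = (y ≫ snd H E) * (k ≫ i) := by rw [hk, mul_inv_cancel_left]
    rw [← cancel_mono i, Category.assoc, Category.assoc, hx, hy, hcT, hcT, ← e1, hk',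
      _root_.mul_inv_rev]
    have h5 : (k ≫ i) * ((x ≫ fst H E) ≫ i) = ((x ≫ fst H E) ≫ i) * (k ≫ i) := by
      rw [← mul_comp, mul_comm' hH, mul_comp]
    rw [_root_.mul_assoc (y ≫ snd H E), h5]
    simp only [_root_.mul_assoc, mul_inv_cancel_left])
  have hepi := Groth.Agent.Sga3C.QuotProps.epi_of_flat_surjective p
  have hθT : ∀ {T : Over S} (h : T ⟶ H) (e : T ⟶ E), lift h (e ≫ p) ≫ θ = lift h e ≫ c := by
    intro T h e
    rw [← hθ, ← Category.assoc, lift_whiskerLeft]
  have hfam : AutFam.IsHomFamily H H θ := by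
    intro X g₁ g₂ t
    -- fpqc-locally `t` lifts to `E`
    let P := pullback t p
    have hpb : IsPullback (pullback.fst t p).left (pullback.snd t p).left t.left p.left :=
      (IsPullback.of_hasPullback t p).map (Over.forget S)
    have g1 : Flat (pullback.fst t p).left := MorphismProperty.of_isPullback (P := @Flat) hpb.flip inferInstance
    have g2 : Surjective (pullback.fst t p).left :=
      MorphismProperty.of_isPullback (P := @Surjective) hpb.flip inferInstance
    have := Groth.Agent.Sga3C.QuotProps.epi_of_flat_surjective (pullback.fst t p)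
    rw [← cancel_epi (pullback.fst t p), ← cancel_mono i]
    simp only [comp_mul, mul_comp, comp_lift_assoc, pullback.condition, Category.assoc]
    rw [← Category.assoc (lift _ _) θ i, ← Category.assoc (lift _ _) θ i, ← Category.assoc (lift _ _) θ i,
      hθT, hθT, hθT, Category.assoc, Category.assoc, Category.assoc, hcT, hcT, hcT, mul_comp]
    simp only [_root_.mul_assoc, inv_mul_cancel_left, Category.assoc]
  have hunit : ∀ (T : Over S) (h : T ⟶ H), lift h (toUnit T ≫ η[U]) ≫ θ = h := by
    intro T h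
    have h1 : toUnit T ≫ η[U] = (1 : T ⟶ E) ≫ p := by
      rw [one_comp]; rfl
    rw [h1, hθT, ← cancel_mono i, Category.assoc, hcT, _root_.one_mul, inv_one, _root_.mul_one]
  have hfin := eq_fst_of_isHomFamily hH hU η[U] θ hfam hunit
  intro X h e
  have h1 := hcT h e
  rw [← Category.assoc, ← hθT, hfin, lift_fst] at h1
  rw [← mul_inv_eq_iff_eq_mul.1 h1.symm]

end K11.ExtMT
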