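import Groth.Agent.Ega4dB.SchDense
import Groth.Agent.Ega4late.H537.SchDensePull
import Mathlib.AlgebraicGeometry.Fiber

/-!
# Opens schematically dense relative to the base

`RelDense p U`: `U ⊂ X` is schematically dense relative to `p : X ⟶ S`.

* `RelDense.inf`, `RelDense.preimage` (pullback along a flat morphism locally of finite presentation);
* `ext_of_relDense`: morphisms to a scheme with separated fibres which agree on such an open are equal.
-/

set_option autoImplicit false
universe u
open CategoryTheory CategoryTheory.Limits AlgebraicGeometry TopologicalSpace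

namespace K11.RelDense

set_option linter.dupNamespace false

/-- Schematic density relative to the base. -/
def RelDense {X S : Scheme.{u}} (p : X ⟶ S) (U : X.Opens) : Prop :=
  ∀ (S' : Scheme.{u}) (g : S' ⟶ S), CInt.IsSchematicallyDense ((pullback.fst p g) ⁻¹ᵁ U)

theorem isSchematicallyDense_inf {X : Scheme.{u}} {U V : X.Opens} (hU : CInt.IsSchematicallyDense U)
    (hV : CInt.IsSchematicallyDense V) : CInt.IsSchematicallyDense (U ⊓ V) := by
  intro W
  rw [injective_iff_map_eq_zero]
  intro s hs
  apply Groth.Agent.Ega4late.H537.SchDensePull.eq_zero_of_isSchematicallyDense hU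
  intro x hx hxU
  have hx' : x ∈ W ⊓ U := ⟨hx, hxU⟩
  have h0 : X.presheaf.map (homOfLE (inf_le_left : W ⊓ U ≤ W)).op s = 0 := by
    apply Groth.Agent.Ega4late.H537.SchDensePull.eq_zero_of_isSchematicallyDense hV
    intro y hy hyV
    rw [← CommRingCat.comp_apply, X.presheaf.germ_res]
    have hy' : y ∈ W ⊓ (U ⊓ V) := ⟨hy.1, hy.2, hyV⟩
    have h1 := congrArg (X.presheaf.germ _ y hy') hs
    rw [map_zero, ← CommRingCat.comp_apply, X.presheaf.germ_res] at h1
    exact h1
  have h1 := congrArg (X.presheaf.germ _ x hx') h0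
  rw [map_zero, ← CommRingCat.comp_apply, X.presheaf.germ_res] at h1
  exact h1

theorem RelDense.inf {X S : Scheme.{u}} {p : X ⟶ S} {U V : X.Opens} (hU : RelDense p U)
    (hV : RelDense p V) : RelDense p (U ⊓ V) := by
  intro S' g
  have h1 : pullback.fst p g ⁻¹ᵁ (U ⊓ V) = pullback.fst p g ⁻¹ᵁ U ⊓ pullback.fst p g ⁻¹ᵁ V := rfl
  rw [h1]
  exact isSchematicallyDense_inf (hU S' g) (hV S' g)

theorem RelDense.preimage {X Y S : Scheme.{u}} {p : X ⟶ S} {U : X.Opens} (hU : RelDense p U)
    (f : Y ⟶ X) [Flat f] [LocallyOfFinitePresentation f] (q : Y ⟶ S) (hq : f ≫ p = q) :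
    RelDense q (f ⁻¹ᵁ U) := by
  subst hq
  intro S' g
  let f' : pullback (f ≫ p) g ⟶ pullback p g :=
    pullback.map _ _ _ _ f (𝟙 S') (𝟙 S) (by simp) (by simp)
  have hf' : IsPullback f' (pullback.fst (f ≫ p) g) (pullback.fst p g) f := by
    refine IsPullback.of_right (h₁₂ := pullback.snd p g) (h₂₂ := p) (v₁₃ := g) ?_ ?_ ?_
    · have h1 : f' ≫ pullback.snd p g = pullback.snd (f ≫ p) g :=
        (pullback.lift_snd _ _ _).trans (Category.comp_id _)
      rw [h1]
      exact (IsPullback.of_hasPullback (f ≫ p) g).flip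
    · exact pullback.lift_fst _ _ _
    · exact (IsPullback.of_hasPullback p g).flip
  have h1 : Flat f' := MorphismProperty.of_isPullback (P := @Flat) hf'.flip inferInstance
  have h2 : LocallyOfFinitePresentation f' :=
    MorphismProperty.of_isPullback (P := @LocallyOfFinitePresentation) hf'.flip inferInstance
  have h3 := Groth.Agent.Ega4late.H537.SchDensePull.isSchematicallyDense_preimage f' _ (hU S' g)
  have h4 : f' ⁻¹ᵁ (pullback.fst p g ⁻¹ᵁ U) = pullback.fst (f ≫ p) g ⁻¹ᵁ (f ⁻¹ᵁ U) := by
    rw [← Scheme.Hom.comp_preimage, ← Scheme.Hom.comp_preimage, hf'.w]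
  rwa [h4] at h3

/-- Morphisms to a scheme with separated fibres which agree on an open schematically dense relative to
the base are equal. -/
theorem ext_of_relDense {X Y S : Scheme.{u}} (pX : X ⟶ S) (pY : Y ⟶ S) (f g : X ⟶ Y) (hf : f ≫ pY = pX)
    (hg : g ≫ pY = pX) (U : X.Opens) (hU : RelDense pX U)
    (hY : ∀ s : S, IsSeparated (pullback.snd pY (S.fromSpecResidueField s)))
    (h : U.ι ≫ f = U.ι ≫ g) : f = g := by
  -- the equalizer is surjective
  have hs : Surjective (equalizer.ι f g) := by
    refine ⟨fun x => ?_⟩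
    let s := pX x
    let i := S.fromSpecResidueField s
    let a : pullback pX i ⟶ pullback pY i :=
      pullback.map _ _ _ _ f (𝟙 _) (𝟙 S) (by simp [hf]) (by simp)
    let b : pullback pX i ⟶ pullback pY i :=
      pullback.map _ _ _ _ g (𝟙 _) (𝟙 S) (by simp [hg]) (by simp)
    have ha1 : a ≫ pullback.fst pY i = pullback.fst pX i ≫ f := pullback.lift_fst _ _ _
    have hb1 : b ≫ pullback.fst pY i = pullback.fst pX i ≫ g := pullback.lift_fst _ _ _
    have ha2 : a ≫ pullback.snd pY i = pullback.snd pX i := (pullback.lift_snd _ _ _).trans (by simp)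
    have hb2 : b ≫ pullback.snd pY i = pullback.snd pX i := (pullback.lift_snd _ _ _).trans (by simp)
    have := hY s
    have hab : a = b := by
      refine Groth.Agent.Ega4dB.SchDense.ext_of_isSchematicallyDense (pullback.snd pY i)
        (ha2.trans hb2.symm) _ (hU _ i) ?_
      apply pullback.hom_ext
      · rw [Category.assoc, Category.assoc, ha1, hb1, ← morphismRestrict_ι_assoc, h,
          morphismRestrict_ι_assoc]
      · rw [Category.assoc, Category.assoc, ha2, hb2]
    have hfg : pullback.fst pX i ≫ f = pullback.fst pX i ≫ g := by rw [← ha1, ← hb1, hab]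
    obtain ⟨z, hz⟩ : x ∈ Set.range (pullback.fst pX i) := by
      rw [Scheme.Pullback.range_fst]
      exact ⟨IsLocalRing.closedPoint _, S.fromSpecResidueField_apply s _⟩
    refine ⟨equalizer.lift (pullback.fst pX i) hfg z, ?_⟩
    rw [← Scheme.Hom.comp_apply, equalizer.lift_ι, hz]
  have hc : IsClosedImmersion (equalizer.ι f g) :=
    IsClosedImmersion.of_isPreimmersion _ (by rw [hs.surj.range_eq]; exact isClosed_univ)
  have hU' : CInt.IsSchematicallyDense U := by
    have h1 := hU S (𝟙 S)
    have h2 := Groth.Agent.Ega4late.H537.SchDensePull.isSchematicallyDense_preimage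
      (inv (pullback.fst pX (𝟙 S))) _ h1
    rw [← Scheme.Hom.comp_preimage, IsIso.inv_hom_id] at h2
    exact h2
  have hd := Groth.Agent.Ega4dB.SchDense.isSchemeTheoreticallyDominant_ι U hU'
  have hl : equalizer.lift U.ι h ≫ equalizer.ι f g = U.ι := equalizer.lift_ι _ _
  have hker : (Scheme.Hom.ker (equalizer.ι f g)) = ⊥ := by
    have h1 := Scheme.Hom.le_ker_comp (equalizer.lift U.ι h) (equalizer.ι f g)
    rw [hl, U.ι.ker_eq_bot] at h1
    exact le_bot_iff.mp h1
  have : IsIso (equalizer.ι f g) := IsClosedImmersion.isIso_iff_ker_eq_bot.mpr hker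
  rw [← cancel_epi (equalizer.ι f g)]
  exact equalizer.condition f g

end K11.RelDense
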