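import Groth.Agent.SGA3x.K11.WeilExt

/-!
# Extension of a rational homomorphism of group schemes: main theorem
-/

set_option autoImplicit false
set_option linter.unusedSectionVars false
universe u
open CategoryTheory MonoidalCategory CartesianMonoidalCategory MonObj GrpObj AlgebraicGeometry Limits
open Groth.Agent.Sga3C.QuotProps K11.RelDense K11.WeilExt

namespace K11.WeilMain

variable {S : Scheme.{u}} {G H : Over S} [GrpObj G] [GrpObj H]

/-- Two morphisms to `H` over `S` which agree on a relatively dense open are equal. -/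
theorem ext_open {X : Over S} (hsep : ∀ s : S, IsSeparated (pullback.snd H.hom (S.fromSpecResidueField s)))
    (f g : X ⟶ H) (W : X.left.Opens) (hW : RelDense X.hom W)
    (h : (Over.homMk W.ι rfl : Over.mk (W.ι ≫ X.hom) ⟶ X) ≫ f =
      (Over.homMk W.ι rfl : Over.mk (W.ι ≫ X.hom) ⟶ X) ≫ g) : f = g := by
  ext1
  refine ext_of_relDense X.hom H.hom f.left g.left (Over.w f) (Over.w g) W hW hsep ?_
  exact congrArg (fun z => Over.Hom.left z) h

variable {U : G.left.Opens} (jU : Over.mk (U.ι ≫ G.hom) ⟶ G) (hjU : jU.left = U.ι)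
  (fbar : Over.mk (U.ι ≫ G.hom) ⟶ H) (V : (G ⊗ G).left.Opens)
  (hV1 : V ≤ (fst G G).left ⁻¹ᵁ U) (hV2 : V ≤ (snd G G).left ⁻¹ᵁ U)
  (hmul : ∀ (X : Over S) (a b : X ⟶ Over.mk (U.ι ≫ G.hom)),
      Set.range (lift (a ≫ jU) (b ≫ jU)).left.base ⊆ (V : Set ↥(G ⊗ G).left) →
      ∃ c : X ⟶ Over.mk (U.ι ≫ G.hom), c ≫ jU = (a ≫ jU) * (b ≫ jU) ∧
        c ≫ fbar = (a ≫ fbar) * (b ≫ fbar))

include hjU hV2 hmul

theorem assoc_step {X : Over S} (a b : X ⟶ Over.mk (U.ι ≫ G.hom)) (c : X ⟶ G)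
    (h1 : Set.range (lift (b ≫ jU) c).left ⊆ (V : Set (G ⊗ G).left))
    (h2 : Set.range (lift (a ≫ jU) ((b ≫ jU) * c)).left ⊆ (V : Set (G ⊗ G).left)) :
    ∃ c' d : X ⟶ Over.mk (U.ι ≫ G.hom), c' ≫ jU = c ∧ d ≫ jU = (a ≫ jU) * (b ≫ jU) * c ∧
      d ≫ fbar = (a ≫ fbar) * (b ≫ fbar) * (c' ≫ fbar) := by
  obtain ⟨c', hc'⟩ := exists_liftU jU hjU c (by
    rintro _ ⟨z, rfl⟩
    have h3 := hV2 (h1 ⟨z, rfl⟩)
    change (snd G G).left ((lift (b ≫ jU) c).left z) ∈ U at h3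
    rwa [← Scheme.Hom.comp_apply, ← Over.comp_left, lift_snd] at h3)
  subst hc'
  obtain ⟨e, he1, he2⟩ := hmul X b c' h1
  rw [← he1] at h2
  obtain ⟨d, hd1, hd2⟩ := hmul X a e h2
  refine ⟨c', d, rfl, ?_, ?_⟩
  · rw [hd1, he1, _root_.mul_assoc]
  · rw [hd2, he2, _root_.mul_assoc]

theorem key (hG : FL G.hom) (hV : RelDense (G ⊗ G).hom V)
    (hsep : ∀ s : S, IsSeparated (pullback.snd H.hom (S.fromSpecResidueField s)))
    {T : Over S} (x y : T ⟶ Over.mk (U.ι ≫ G.hom) ⊗ Over.mk (U.ι ≫ G.hom))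
    (hxy : x ≫ mulU jU = y ≫ mulU jU) :
    x ≫ ((fst _ _ ≫ fbar) * (snd _ _ ≫ fbar)) = y ≫ ((fst _ _ ≫ fbar) * (snd _ _ ≫ fbar)) := by
  have hmono := mono_jU jU hjU
  suffices h : pullback.fst (mulU jU) (mulU jU) ≫ ((fst _ _ ≫ fbar) * (snd _ _ ≫ fbar)) =
      pullback.snd (mulU jU) (mulU jU) ≫ ((fst _ _ ≫ fbar) * (snd _ _ ≫ fbar)) by
    rw [← pullback.lift_fst x y hxy, Category.assoc, h, pullback.lift_snd_assoc]
  clear hxy x y
  let P := pullback (mulU jU) (mulU jU)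
  let x : P ⟶ _ := pullback.fst (mulU jU) (mulU jU)
  let y : P ⟶ _ := pullback.snd (mulU jU) (mulU jU)
  have hpb : IsPullback x.left y.left (mulU jU).left (mulU jU).left :=
    (IsPullback.of_hasPullback (mulU jU) (mulU jU)).map (Over.forget S)
  have hφ := fl_mulU jU hjU hG
  have hx : FL x.left := MorphismProperty.of_isPullback (P := FL) hpb.flip hφ
  have hy : FL y.left := MorphismProperty.of_isPullback (P := FL) hpb hφ
  have hUo : FL (Over.mk (U.ι ≫ G.hom)).hom := FL.comp_mem _ _ ⟨inferInstance, inferInstance⟩ hG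
  have hj := fl_jU jU hjU
  have hf : ∀ {z : P ⟶ Over.mk (U.ι ≫ G.hom) ⊗ Over.mk (U.ι ≫ G.hom)}, FL z.left →
      FL (z ≫ fst _ _ ≫ jU).left := fun hz => fl_comp hz (fl_comp (fl_fst _ _ hUo) hj)
  have hs : ∀ {z : P ⟶ Over.mk (U.ι ≫ G.hom) ⊗ Over.mk (U.ι ≫ G.hom)}, FL z.left →
      FL (z ≫ snd _ _ ≫ jU).left := fun hz => fl_comp hz (fl_comp (fl_snd _ _ hUo) hj)
  let M : (P ⟶ G) → (P ⟶ G) → (P ⊗ G ⟶ G ⊗ G) := fun α β =>
    lift (fst P G ≫ α) ((fst P G ≫ β) * snd P G)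
  have hM : ∀ (α β : P ⟶ G), FL α.left → RelDense (P ⊗ G).hom ((M α β).left ⁻¹ᵁ V) := by
    intro α β hα
    have h1 := fl_lift α β hα
    have : Flat (M α β).left := h1.1
    have : LocallyOfFinitePresentation (M α β).left := h1.2
    exact hV.preimage (M α β).left (P ⊗ G).hom (Over.w _)
  let W : (P ⊗ G).left.Opens :=
    ((M (x ≫ snd _ _ ≫ jU) 1).left ⁻¹ᵁ V ⊓ (M (x ≫ fst _ _ ≫ jU) (x ≫ snd _ _ ≫ jU)).left ⁻¹ᵁ V) ⊓
    ((M (y ≫ snd _ _ ≫ jU) 1).left ⁻¹ᵁ V ⊓ (M (y ≫ fst _ _ ≫ jU) (y ≫ snd _ _ ≫ jU)).left ⁻¹ᵁ V)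
  have hW : RelDense (P ⊗ G).hom W :=
    ((hM _ _ (hs hx)).inf (hM _ _ (hf hx))).inf ((hM _ _ (hs hy)).inf (hM _ _ (hf hy)))
  let k : Over.mk (W.ι ≫ (P ⊗ G).hom) ⟶ P ⊗ G := Over.homMk W.ι rfl
  have hcomp : ∀ (α β : P ⟶ G), k ≫ M α β =
      lift ((k ≫ fst P G) ≫ α) (((k ≫ fst P G) ≫ β) * (k ≫ snd P G)) := by
    intro α β
    simp only [M, comp_lift, comp_mul, Category.assoc]
  have hrange : ∀ (α β : P ⟶ G), W ≤ (M α β).left ⁻¹ᵁ V →
      Set.range (lift ((k ≫ fst P G) ≫ α) (((k ≫ fst P G) ≫ β) * (k ≫ snd P G))).left ⊆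
        (V : Set (G ⊗ G).left) := by
    intro α β h
    rw [← hcomp]
    rintro _ ⟨z, rfl⟩
    exact h z.2
  have hext : fst P G ≫ x ≫ ((fst _ _ ≫ fbar) * (snd _ _ ≫ fbar)) =
      fst P G ≫ y ≫ ((fst _ _ ≫ fbar) * (snd _ _ ≫ fbar)) := by
    refine ext_open hsep _ _ W hW ?_
    change k ≫ _ = k ≫ _
    obtain ⟨c1, d1, hc1, hd1, he1⟩ := assoc_step jU hjU fbar V hV2 hmul
      ((k ≫ fst P G) ≫ x ≫ fst _ _) ((k ≫ fst P G) ≫ x ≫ snd _ _) (k ≫ snd P G)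
      (by
        have := hrange (x ≫ snd _ _ ≫ jU) 1 (fun z hz => hz.1.1)
        simpa only [comp_one, _root_.one_mul, Category.assoc] using this)
      (by
        have := hrange (x ≫ fst _ _ ≫ jU) (x ≫ snd _ _ ≫ jU) (fun z hz => hz.1.2)
        simpa only [Category.assoc] using this)
    obtain ⟨c2, d2, hc2, hd2, he2⟩ := assoc_step jU hjU fbar V hV2 hmul
      ((k ≫ fst P G) ≫ y ≫ fst _ _) ((k ≫ fst P G) ≫ y ≫ snd _ _) (k ≫ snd P G)
      (by
        have := hrange (y ≫ snd _ _ ≫ jU) 1 (fun z hz => hz.2.1)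
        simpa only [comp_one, _root_.one_mul, Category.assoc] using this)
      (by
        have := hrange (y ≫ fst _ _ ≫ jU) (y ≫ snd _ _ ≫ jU) (fun z hz => hz.2.2)
        simpa only [Category.assoc] using this)
    have hc : c1 = c2 := by rw [← cancel_mono jU, hc1, hc2]
    have hprod : x ≫ mulU jU = y ≫ mulU jU := pullback.condition
    have hprod' : ((k ≫ fst P G) ≫ x ≫ fst _ _) ≫ jU * ((k ≫ fst P G) ≫ x ≫ snd _ _) ≫ jU =
        ((k ≫ fst P G) ≫ y ≫ fst _ _) ≫ jU * ((k ≫ fst P G) ≫ y ≫ snd _ _) ≫ jU := by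
      have := congrArg (fun z => (k ≫ fst P G) ≫ z) hprod
      simpa only [comp_mulU, comp_mul, Category.assoc] using this
    have hd : d1 = d2 := by rw [← cancel_mono jU, hd1, hd2, hprod']
    rw [hd, he2, hc] at he1
    have := mul_right_cancel he1
    simpa only [comp_mul, Category.assoc] using this.symm
  have h3 := congrArg (fun z => lift (𝟙 P) 1 ≫ z) hext
  simpa only [lift_fst_assoc, Category.id_comp] using h3

include hV1

/-- **Extension of rational homomorphisms.** -/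
theorem exists_hom (hG : FL G.hom) (hU : RelDense G.hom U) (hV : RelDense (G ⊗ G).hom V)
    (hVm : V ≤ (μ[G] : G ⊗ G ⟶ G).left ⁻¹ᵁ U)
    (hsep : ∀ s : S, IsSeparated (pullback.snd H.hom (S.fromSpecResidueField s))) :
    ∃ f : G ⟶ H, IsMonHom f ∧ jU ≫ f = fbar := by
  have hmono := mono_jU jU hjU
  have hφ := fl_mulU jU hjU hG
  have : Flat (mulU jU).left := hφ.1
  have : LocallyOfFinitePresentation (mulU jU).left := hφ.2
  have : Surjective (mulU jU).left := surjective_mulU jU hjU hU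
  obtain ⟨f, hf⟩ := exists_desc (mulU jU) ((fst _ _ ≫ fbar) * (snd _ _ ≫ fbar))
    (fun T x y hxy => key jU hjU fbar V hV2 hmul hG hV hsep x y hxy)
  have hf' : ∀ {X : Over S} (a b : X ⟶ Over.mk (U.ι ≫ G.hom)),
      ((a ≫ jU) * (b ≫ jU)) ≫ f = (a ≫ fbar) * (b ≫ fbar) := by
    intro X a b
    have h1 := congrArg (fun z => lift a b ≫ z) hf
    simp only [← Category.assoc, comp_mulU, lift_fst, lift_snd] at h1
    rw [h1, comp_mul, lift_fst_assoc, lift_snd_assoc]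
  -- restriction to `V`
  let Vo : Over S := Over.mk (V.ι ≫ (G ⊗ G).hom)
  let v : Vo ⟶ G ⊗ G := Over.homMk V.ι rfl
  obtain ⟨a, ha⟩ := exists_liftU jU hjU (v ≫ fst G G) (by
    rintro _ ⟨z, rfl⟩
    exact hV1 z.2)
  obtain ⟨b, hb⟩ := exists_liftU jU hjU (v ≫ snd G G) (by
    rintro _ ⟨z, rfl⟩
    exact hV2 z.2)
  have hv : lift (a ≫ jU) (b ≫ jU) = v := by
    rw [ha, hb]
    apply CartesianMonoidalCategory.hom_ext
    · rw [lift_fst]
    · rw [lift_snd]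
  obtain ⟨c, hc1, hc2⟩ := hmul Vo a b (by
    rw [hv]
    rintro _ ⟨z, rfl⟩
    exact z.2)
  have hvm : v ≫ μ[G] = (a ≫ jU) * (b ≫ jU) := by
    rw [ha, hb, mul_eq, comp_mul]
  -- `f` extends `fbar`
  have hext : jU ≫ f = fbar := by
    let N : (G ⊗ G).left.Opens := (μ[G] : G ⊗ G ⟶ G).left ⁻¹ᵁ U
    let No : Over S := Over.mk (N.ι ≫ (G ⊗ G).hom)
    let n : No ⟶ G ⊗ G := Over.homMk N.ι rfl
    obtain ⟨m, hm⟩ := exists_liftU jU hjU (n ≫ μ[G]) (by
      rintro _ ⟨z, rfl⟩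
      exact z.2)
    have hmpb : IsPullback m.left N.ι U.ι (μ[G] : G ⊗ G ⟶ G).left := by
      have h1 := isPullback_morphismRestrict (μ[G] : G ⊗ G ⟶ G).left U
      have h2 : m.left = (μ[G] : G ⊗ G ⟶ G).left ∣_ U := by
        rw [← cancel_mono U.ι, morphismRestrict_ι]
        refine (congrArg (fun k => m.left ≫ k) hjU.symm).trans ?_
        rw [← Over.comp_left, hm, Over.comp_left]
        rfl
      rw [h2]
      exact h1
    have hμ := fl_mul (G := G) hG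
    have hμs : Surjective (μ[G] : G ⊗ G ⟶ G).left := by
      have h1 : (lift (𝟙 G) 1 : G ⟶ G ⊗ G) ≫ μ[G] = 𝟙 G := by
        rw [mul_eq, comp_mul, lift_fst, lift_snd, _root_.mul_one]
      have h2 : Surjective ((lift (𝟙 G) 1 : G ⟶ G ⊗ G).left ≫ (μ[G] : G ⊗ G ⟶ G).left) := by
        rw [← Over.comp_left, h1]
        exact ⟨fun x => ⟨x, rfl⟩⟩
      exact Surjective.of_comp (lift (𝟙 G) 1 : G ⟶ G ⊗ G).left _
    have : Flat m.left := MorphismProperty.of_isPullback (P := @Flat) hmpb.flip hμ.1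
    have : Surjective m.left := MorphismProperty.of_isPullback (P := @Surjective) hmpb.flip hμs
    have := epi_of_flat_surjective m
    rw [← cancel_epi m]
    refine ext_open hsep _ _ (N.ι ⁻¹ᵁ V) (hV.preimage N.ι _ rfl) ?_
    let Vo' : Over S := Over.mk ((N.ι ⁻¹ᵁ V).ι ≫ No.hom)
    let v' : Vo' ⟶ No := Over.homMk (N.ι ⁻¹ᵁ V).ι rfl
    change v' ≫ _ = v' ≫ _
    obtain ⟨w, hw⟩ : ∃ w : Vo' ⟶ Vo, w ≫ v = v' ≫ n := by
      have h1 : Set.range ((N.ι ⁻¹ᵁ V).ι ≫ N.ι) ⊆ Set.range V.ι := by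
        rw [Scheme.Opens.range_ι]
        rintro _ ⟨z, rfl⟩
        rw [Scheme.Hom.comp_apply]
        exact z.2
      refine ⟨Over.homMk (IsOpenImmersion.lift V.ι ((N.ι ⁻¹ᵁ V).ι ≫ N.ι) h1) ?_, ?_⟩
      · change _ ≫ V.ι ≫ (G ⊗ G).hom = (N.ι ⁻¹ᵁ V).ι ≫ N.ι ≫ (G ⊗ G).hom
        rw [IsOpenImmersion.lift_fac_assoc, Category.assoc]
      · apply Over.OverMorphism.ext
        exact IsOpenImmersion.lift_fac _ _ _
    have h5 : w ≫ c = v' ≫ m := by
      rw [← cancel_mono jU, Category.assoc, Category.assoc, hc1, hm, ← hvm, ← Category.assoc w,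
        hw, Category.assoc]
    have h6 : c ≫ jU ≫ f = c ≫ fbar := by
      rw [← Category.assoc, hc1, hf', hc2]
    rw [← Category.assoc, ← Category.assoc v', ← h5, Category.assoc, Category.assoc, h6]
  refine ⟨f, ?_, hext⟩
  -- `f` is a homomorphism
  have hmulf : μ[G] ≫ f = (fst G G ≫ f) * (snd G G ≫ f) := by
    refine ext_open hsep _ _ V hV ?_
    change v ≫ _ = v ≫ _
    rw [← Category.assoc, hvm, hf', comp_mul, ← Category.assoc v, ← Category.assoc v, ← ha, ← hb,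
      Category.assoc, Category.assoc, hext]
  have hmulT : ∀ {T : Over S} (x y : T ⟶ G), (x * y) ≫ f = (x ≫ f) * (y ≫ f) := by
    intro T x y
    have h1 := congrArg (fun z => lift x y ≫ z) hmulf
    rwa [comp_mul, lift_fst_assoc, lift_snd_assoc, ← Category.assoc, ← Hom.mul_def] at h1
  refine ⟨?_, ?_⟩
  · have h1 := hmulT (η[G] : 𝟙_ (Over S) ⟶ G) η[G]
    have h2 : (η[G] : 𝟙_ (Over S) ⟶ G) = 1 := by
      change _ = toUnit _ ≫ η[G]
      rw [toUnit_unique (toUnit (𝟙_ (Over S))) (𝟙 _), Category.id_comp]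
    have h3 : (η[H] : 𝟙_ (Over S) ⟶ H) = 1 := by
      change _ = toUnit _ ≫ η[H]
      rw [toUnit_unique (toUnit (𝟙_ (Over S))) (𝟙 _), Category.id_comp]
    rw [h2, _root_.mul_one] at h1
    rw [h2, h3]
    exact (left_eq_mul.1 h1)
  · rw [hmulf, Hom.mul_def]
    congr 1

end K11.WeilMain
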