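import Groth.Agent.Sga3C.QuotProps
import Groth.Agent.Sga3.H140.QuotQC
import Groth.Agent.GIT.K686.Whisk
import Groth.Agent.Flat2F.FlatComp

/-!
# Short exact sequences of group schemes: torsor squares

* `split`: for a homomorphism `g : E ⟶ T` with kernel `k : F ⟶ E` and any `h : H ⟶ E`, the morphism
  `F ⊗ H ⟶ E`, `(f, x) ↦ k f * h x`, is the base change of `h ≫ g` along `g`.
* `prop_left`: a property of morphisms which is fpqc local on the target passes from the structure morphism of the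
  kernel to the quotient map.
* `five`: a morphism of short exact sequences whose outer terms have a property which is fpqc local on the target and
  stable under composition has it in the middle.
-/

set_option autoImplicit false
universe v u
open CategoryTheory MonoidalCategory CartesianMonoidalCategory MonObj GrpObj AlgebraicGeometry Limits

namespace K11.TorsKit

section cat

variable {C : Type u} [Category.{v} C] [CartesianMonoidalCategory C] {E T F H : C} [GrpObj T]

/-- The kernel square, elementwise. -/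
structure Ker (k : F ⟶ E) (g : E ⟶ T) : Prop where
  w : k ≫ g = 1
  mono : Mono k
  lift : ∀ {X : C} (a : X ⟶ E), a ≫ g = 1 → ∃ b : X ⟶ F, b ≫ k = a

theorem Ker.iff_isPullback (k : F ⟶ E) (g : E ⟶ T) : Ker k g ↔ IsPullback k (toUnit F) g η[T] := by
  constructor
  · intro h
    have := h.mono
    have hl : ∀ s : PullbackCone g η[T], s.fst ≫ g = 1 := fun s => by
      rw [s.condition, toUnit_unique s.snd (toUnit _)]
      rfl
    refine ⟨⟨by rw [h.w]; rfl⟩, ⟨PullbackCone.IsLimit.mk _ (fun s => (h.lift s.fst (hl s)).choose) ?_ ?_ ?_⟩⟩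
    · intro s
      exact (h.lift s.fst (hl s)).choose_spec
    · intro s
      exact toUnit_unique _ _
    · intro s m h1 h2
      rw [← cancel_mono k, h1]
      exact ((h.lift s.fst (hl s)).choose_spec).symm
  · intro h
    refine ⟨h.w, ?_, fun a ha => ⟨h.lift a (toUnit _) ha, h.lift_fst _ _ _⟩⟩
    have : Mono (η[T] : 𝟙_ C ⟶ T) := ⟨fun a b _ => toUnit_unique _ _⟩
    exact MorphismProperty.of_isPullback (P := MorphismProperty.monomorphisms C) h.flip
      (MorphismProperty.monomorphisms.infer_property _)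

variable {k : F ⟶ E} {g : E ⟶ T}

theorem Ker.comp_w (hk : Ker k g) {X : C} (a : X ⟶ F) : a ≫ k ≫ g = 1 := by
  rw [hk.w, MonObj.comp_one]

/-- Transport of kernels along isomorphisms. -/
theorem Ker.iso (hk : Ker k g) {F' E' T' : C} [GrpObj T'] (eF : F ≅ F') (eE : E ≅ E') (eT : T ≅ T')
    [IsMonHom eT.hom] {k' : F' ⟶ E'} {g' : E' ⟶ T'} (h1 : eF.inv ≫ k ≫ eE.hom = k')
    (h2 : eE.inv ≫ g ≫ eT.hom = g') : Ker k' g' := by
  subst h1 h2
  have := hk.mono
  refine ⟨?_, inferInstance, fun a ha => ?_⟩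
  · simp only [Category.assoc, Iso.hom_inv_id_assoc]
    rw [← Category.assoc k, hk.w, MonObj.one_comp, MonObj.comp_one]
  · have h3 : (a ≫ eE.inv) ≫ g = 1 := by
      rw [← cancel_mono eT.hom, MonObj.one_comp, ← ha]
      simp only [Category.assoc]
    obtain ⟨b, hb⟩ := hk.lift _ h3
    exact ⟨b ≫ eF.hom, by simp only [Category.assoc, Iso.hom_inv_id_assoc]; rw [← Category.assoc, hb]; simp⟩

variable [GrpObj E]

/-- The torsor square: `F ⊗ H ⟶ E`, `(f, x) ↦ k f * h x` is the base change of `h ≫ g` along `g`. -/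
theorem split [IsMonHom g] (hk : Ker k g) (h : H ⟶ E) :
    IsPullback (snd F H) ((fst F H ≫ k) * (snd F H ≫ h)) (h ≫ g) g := by
  have := hk.mono
  have hw : snd F H ≫ h ≫ g = ((fst F H ≫ k) * (snd F H ≫ h)) ≫ g := by
    rw [MonObj.mul_comp, Category.assoc, Category.assoc, hk.comp_w, _root_.one_mul]
  have hl : ∀ s : PullbackCone (h ≫ g) g, (s.snd * (s.fst ≫ h)⁻¹) ≫ g = 1 := by
    intro s
    rw [MonObj.mul_comp, GrpObj.inv_comp, Category.assoc, s.condition, mul_inv_cancel]
  refine ⟨⟨hw⟩, ⟨PullbackCone.IsLimit.mk _ (fun s => lift (hk.lift _ (hl s)).choose s.fst) ?_ ?_ ?_⟩⟩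
  · intro s
    exact lift_snd _ _
  · intro s
    rw [MonObj.comp_mul, lift_fst_assoc, lift_snd_assoc, (hk.lift _ (hl s)).choose_spec, inv_mul_cancel_right]
  · intro s m h1 h2
    apply CartesianMonoidalCategory.hom_ext
    · rw [lift_fst, ← cancel_mono k, (hk.lift _ (hl s)).choose_spec, ← h1, ← h2, MonObj.comp_mul]
      simp only [Category.assoc, mul_inv_cancel_right]
    · rw [lift_snd, h1]

variable {E' K K' H' : C} [GrpObj E'] [GrpObj K] [GrpObj K'] {i : H ⟶ E} {i' : H' ⟶ E'} {p : E ⟶ K} {p' : E' ⟶ K'}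

omit [GrpObj E] [GrpObj K] in
/-- First square of the five lemma. -/
theorem five₁ [IsMonHom p'] (hk' : Ker i' p') (ε : E ⟶ E') (κ : K ⟶ K') (h2 : p ≫ κ = ε ≫ p')
    {W : C} {a : W ⟶ K} {b : W ⟶ E'} (hW : IsPullback a b κ p') (v : E ⊗ H' ⟶ W) (hv1 : v ≫ a = fst E H' ≫ p)
    (hv2 : v ≫ b = (fst E H' ≫ ε) * (snd E H' ≫ i')) :
    IsPullback (fst E H') v p a := by
  have := hk'.mono
  have hl : ∀ s : PullbackCone p a, ((s.fst ≫ ε)⁻¹ * (s.snd ≫ b)) ≫ p' = 1 := by
    intro s
    rw [MonObj.mul_comp, GrpObj.inv_comp, Category.assoc, ← h2, Category.assoc, ← hW.w, ← Category.assoc,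
      s.condition, Category.assoc, inv_mul_cancel]
  refine ⟨⟨hv1.symm⟩, ⟨PullbackCone.IsLimit.mk _ (fun s => lift s.fst (hk'.lift _ (hl s)).choose) ?_ ?_ ?_⟩⟩
  · intro s
    exact lift_fst _ _
  · intro s
    apply hW.hom_ext
    · rw [Category.assoc, hv1, lift_fst_assoc, s.condition]
    · rw [Category.assoc, hv2, MonObj.comp_mul, lift_fst_assoc, lift_snd_assoc, (hk'.lift _ (hl s)).choose_spec,
        mul_inv_cancel_left]
  · intro s m h1 h3
    apply CartesianMonoidalCategory.hom_ext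
    · rw [lift_fst, h1]
    · rw [lift_snd, ← cancel_mono i', (hk'.lift _ (hl s)).choose_spec, ← h1, ← h3, Category.assoc m v b, hv2,
        MonObj.comp_mul, Category.assoc, Category.assoc, inv_mul_cancel_left]

omit [GrpObj K'] in
/-- Second square of the five lemma. -/
theorem five₂ {α : H ⟶ H'} {ε : E ⟶ E'} [IsMonHom p] [IsMonHom ε] (hk : Ker i p) (hi' : Mono i')
    (h1 : i ≫ ε = α ≫ i') {W : C} {a : W ⟶ K} {b : W ⟶ E'} {κ : K ⟶ K'} (hW : IsPullback a b κ p')
    (v : E ⊗ H' ⟶ W) (hv1 : v ≫ a = fst E H' ≫ p) (hv2 : v ≫ b = (fst E H' ≫ ε) * (snd E H' ≫ i'))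
    (u : E ⟶ W) (hu1 : u ≫ a = p) (hu2 : u ≫ b = ε) :
    IsPullback (E ◁ α) (fst E H * (snd E H ≫ i)) v u := by
  have := hk.mono
  have hi : ∀ {X : C} (x : X ⟶ H), x ≫ i ≫ p = 1 := fun x => hk.comp_w x
  have hl : ∀ s : PullbackCone v u, ((s.fst ≫ fst E H')⁻¹ * s.snd) ≫ p = 1 := by
    intro s
    have h3 := congrArg (fun z => z ≫ a) s.condition
    simp only [Category.assoc, hv1, hu1] at h3
    rw [MonObj.mul_comp, GrpObj.inv_comp, Category.assoc, h3, inv_mul_cancel]
  refine ⟨⟨?_⟩, ⟨PullbackCone.IsLimit.mk _ (fun s => lift (s.fst ≫ fst E H') (hk.lift _ (hl s)).choose) ?_ ?_ ?_⟩⟩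
  · apply hW.hom_ext
    · rw [Category.assoc, hv1, Category.assoc, hu1, whiskerLeft_fst_assoc, MonObj.mul_comp, Category.assoc, hi,
        _root_.mul_one]
    · rw [Category.assoc, hv2, Category.assoc, hu2, MonObj.mul_comp, MonObj.comp_mul, whiskerLeft_fst_assoc,
        whiskerLeft_snd_assoc, Category.assoc, h1]
  · intro s
    have h3 := congrArg (fun z => z ≫ b) s.condition
    simp only [Category.assoc, hv2, hu2, MonObj.comp_mul] at h3
    apply CartesianMonoidalCategory.hom_ext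
    · rw [Category.assoc, whiskerLeft_fst, lift_fst]
    · rw [Category.assoc, whiskerLeft_snd, lift_snd_assoc, ← cancel_mono i', Category.assoc, ← h1,
        ← Category.assoc, (hk.lift _ (hl s)).choose_spec, MonObj.mul_comp, GrpObj.inv_comp, ← h3, Category.assoc,
        inv_mul_cancel_left, Category.assoc]
  · intro s
    rw [MonObj.comp_mul, lift_fst, lift_snd_assoc, (hk.lift _ (hl s)).choose_spec, mul_inv_cancel_left]
  · intro s m h3 h4
    apply CartesianMonoidalCategory.hom_ext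
    · rw [lift_fst, ← h3, Category.assoc, whiskerLeft_fst]
    · rw [lift_snd, ← cancel_mono i, (hk.lift _ (hl s)).choose_spec, ← h3, ← h4, Category.assoc m (E ◁ α),
        whiskerLeft_fst, MonObj.comp_mul, inv_mul_cancel_left, Category.assoc]

end cat

section sch

variable {S : Scheme.{u}} {E T F H : Over S} [GrpObj E] [GrpObj T] {k : F ⟶ E} {g : E ⟶ T}

/-- faithfully flat and quasi-compact -/
abbrev Cov : MorphismProperty Scheme.{u} := @Surjective ⊓ @Flat ⊓ @QuasiCompact

lemma cov_iff {X Y : Scheme.{u}} (f : X ⟶ Y) : Cov f ↔ Surjective f ∧ Flat f ∧ QuasiCompact f :=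
  ⟨fun h => ⟨h.1.1, h.1.2, h.2⟩, fun h => ⟨⟨h.1, h.2.1⟩, h.2.2⟩⟩

lemma cov {X Y : Scheme.{u}} (f : X ⟶ Y) [Surjective f] [Flat f] [QuasiCompact f] : Cov f :=
  (cov_iff f).2 ⟨inferInstance, inferInstance, inferInstance⟩

theorem split_left [IsMonHom g] (hk : Ker k g) (h : H ⟶ E) :
    IsPullback (snd F H).left ((fst F H ≫ k) * (snd F H ≫ h)).left (h ≫ g).left g.left :=
  (split hk h).map (Over.forget S)

lemma isPullback_snd (X Y : Over S) : IsPullback (fst X Y).left (snd X Y).left X.hom Y.hom :=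
  IsPullback.of_hasPullback X.hom Y.hom

lemma prop_snd {P : MorphismProperty Scheme.{u}} [P.IsStableUnderBaseChange] {X Y : Over S} (h : P X.hom) :
    P (snd X Y).left :=
  MorphismProperty.of_isPullback (isPullback_snd X Y) h

lemma prop_fst {P : MorphismProperty Scheme.{u}} [P.IsStableUnderBaseChange] {X Y : Over S} (h : P Y.hom) :
    P (fst X Y).left :=
  MorphismProperty.of_isPullback (isPullback_snd X Y).flip h

/-- a property of the structure morphism of the kernel passes to the quotient map -/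
theorem prop_left {P : MorphismProperty Scheme.{u}} [P.IsStableUnderBaseChange] [P.DescendsAlong Cov]
    [IsMonHom g] (hk : Ker k g) (hg : Cov g.left) (h : P F.hom) : P g.left := by
  have h1 := split_left hk (𝟙 E)
  rw [Category.id_comp] at h1
  exact MorphismProperty.of_isPullback_of_descendsAlong h1 hg (prop_snd h)

theorem isAffineHom_left [IsMonHom g] (hk : Ker k g) (hg : Cov g.left) (h : IsAffineHom F.hom) :
    IsAffineHom g.left :=
  prop_left (P := @IsAffineHom) hk hg h

theorem epi_of_cov {X Y : Over S} {p : X ⟶ Y} (hp : Cov p.left) : Epi p := by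
  have := hp.1.1
  have := hp.1.2
  exact Groth.Agent.Sga3C.QuotProps.epi_of_flat_surjective p

theorem exists_desc {X Y Z : Over S} {p : X ⟶ Y} (hp : Cov p.left) (f : X ⟶ Z)
    (hf : ∀ (T : Over S) (x y : T ⟶ X), x ≫ p = y ≫ p → x ≫ f = y ≫ f) : ∃ g : Y ⟶ Z, p ≫ g = f := by
  have := hp.1.1
  have := hp.1.2
  have := hp.2
  exact Groth.Agent.Sga3.H140.QuotQC.exists_desc p f hf

/-- homomorphisms which kill the kernel descend -/
theorem exists_desc_hom {Z : Over S} [GrpObj Z] [IsMonHom g] (hk : Ker k g) (hg : Cov g.left) (f : E ⟶ Z) [IsMonHom f]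
    (hf : k ≫ f = 1) : ∃ r : T ⟶ Z, IsMonHom r ∧ g ≫ r = f := by
  obtain ⟨r, hr⟩ := exists_desc hg f (by
    intro X x y hxy
    obtain ⟨b, hb⟩ := hk.lift (x * y⁻¹) (by rw [MonObj.mul_comp, GrpObj.inv_comp, hxy, mul_inv_cancel])
    have h1 : x = (b ≫ k) * y := by rw [hb, inv_mul_cancel_right]
    rw [h1, MonObj.mul_comp, Category.assoc, hf, MonObj.comp_one, _root_.one_mul])
  have he := epi_of_cov hg
  have hgg : Cov (g ⊗ₘ g).left := by
    have h1 := Groth.Agent.Sga3C.QuotProps.tensorHom_left_of (@Surjective) g g hg.1.1 hg.1.1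
    have h2 := Groth.Agent.Sga3C.QuotProps.tensorHom_left_of (@Flat) g g hg.1.2 hg.1.2
    have h3 := Groth.Agent.Sga3C.QuotProps.tensorHom_left_of (@QuasiCompact) g g hg.2 hg.2
    exact (cov_iff _).2 ⟨h1, h2, h3⟩
  have he2 := epi_of_cov hgg
  refine ⟨r, ⟨?_, ?_⟩, hr⟩
  · rw [← IsMonHom.one_hom g, Category.assoc, hr, IsMonHom.one_hom]
  · rw [← cancel_epi (g ⊗ₘ g), ← Category.assoc, ← IsMonHom.mul_hom g, Category.assoc, hr,
      IsMonHom.mul_hom f, ← Category.assoc, tensorHom_comp_tensorHom, hr]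

/-- **Five lemma** for properties of morphisms. -/
theorem five {P : MorphismProperty Scheme.{u}} [P.IsStableUnderBaseChange] [P.IsStableUnderComposition]
    [P.DescendsAlong Cov] {E E' K K' H H' : Over S} [GrpObj E] [GrpObj E'] [GrpObj K] [GrpObj K']
    {i : H ⟶ E} {p : E ⟶ K} {i' : H' ⟶ E'} {p' : E' ⟶ K'} [IsMonHom p] [IsMonHom p'] (hk : Ker i p)
    (hk' : Ker i' p') (hp : Cov p.left) {α : H ⟶ H'} {ε : E ⟶ E'} [IsMonHom ε] {κ : K ⟶ K'} (h1 : i ≫ ε = α ≫ i')
    (h2 : p ≫ κ = ε ≫ p') (hα : P α.left) (hκ : P κ.left) : P ε.left := by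
  let W := pullback κ p'
  let a : W ⟶ K := pullback.fst κ p'
  let b : W ⟶ E' := pullback.snd κ p'
  have hW : IsPullback a b κ p' := .of_hasPullback _ _
  let u : E ⟶ W := pullback.lift p ε h2
  let v : E ⊗ H' ⟶ W := pullback.lift (fst E H' ≫ p) ((fst E H' ≫ ε) * (snd E H' ≫ i')) (by
    rw [Category.assoc, h2, MonObj.mul_comp, Category.assoc, Category.assoc, hk'.comp_w, _root_.mul_one])
  have hv1 : v ≫ a = fst E H' ≫ p := pullback.lift_fst _ _ _
  have hv2 : v ≫ b = (fst E H' ≫ ε) * (snd E H' ≫ i') := pullback.lift_snd _ _ _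
  have hu1 : u ≫ a = p := pullback.lift_fst _ _ _
  have hu2 : u ≫ b = ε := pullback.lift_snd _ _ _
  have s1 : IsPullback (fst E H').left v.left p.left a.left := (five₁ hk' ε κ h2 hW v hv1 hv2).map (Over.forget S)
  have s2 : IsPullback (E ◁ α).left (fst E H * (snd E H ≫ i)).left v.left u.left :=
    (five₂ hk hk'.mono h1 hW v hv1 hv2 u hu1 hu2).map (Over.forget S)
  have hv : Cov v.left := MorphismProperty.of_isPullback s1 hp
  have hEα : P (E ◁ α).left := MorphismProperty.of_isPullback (K686.Whisk.isPullback_whiskerLeft_left α E).flip hα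
  have hu : P u.left := MorphismProperty.of_isPullback_of_descendsAlong s2 hv hEα
  have hb : P b.left := MorphismProperty.of_isPullback (hW.map (Over.forget S)) hκ
  have h3 := MorphismProperty.comp_mem _ _ _ hu hb
  rwa [← Over.comp_left, hu2] at h3

/-- descent of flatness along a faithfully flat cover of the source -/
theorem flat_of_comp {X Y Z : Scheme.{u}} (p : X ⟶ Y) (f : Y ⟶ Z) (hp : Cov p) (h : Flat (p ≫ f)) : Flat f := by
  have := hp.1.1
  have := hp.1.2
  exact Groth.Agent.Flat2F.FlatComp.flat_of_flat_comp_of_flat_surjective p f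

end sch

end K11.TorsKit
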