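import Groth.Agent.SGA3x.K21.Image
import Groth.Agent.SGA3x.K6.HomLoc
import Groth.Agent.RedSub.K197.Isog
import Groth.Agent.SGA3x.K11.TorsKit

/-!
# Groups of multiplicative type: products and quotients

* `of_cover`: a group scheme which is the target of a faithfully flat homomorphism from a group of multiplicative type
  is of multiplicative type;
* `tensor`: products;
* `isMonHom_pow`, `isIsog_pow`: powers on commutative groups.
-/

set_option autoImplicit false
universe v u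
open CategoryTheory MonoidalCategory CartesianMonoidalCategory MonObj GrpObj AlgebraicGeometry Limits
open Groth.Agent Groth.Agent.Sga3B

namespace K11.MTKit

section cat

variable {C : Type u} [Category.{v} C] [CartesianMonoidalCategory C]

theorem isMonHom_of_points {G H : C} [GrpObj G] [GrpObj H] (f : G ⟶ H)
    (h : ∀ (T : C) (x y : T ⟶ G), (x * y) ≫ f = (x ≫ f) * (y ≫ f)) : IsMonHom f where
  one_hom := by
    have h1 := h (𝟙_ C) 1 1
    rw [_root_.mul_one, left_eq_mul] at h1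
    have e1 : (1 : 𝟙_ C ⟶ G) = η[G] := by
      rw [Hom.one_def, toUnit_unit, Category.id_comp]
    have e2 : (1 : 𝟙_ C ⟶ H) = η[H] := by
      rw [Hom.one_def, toUnit_unit, Category.id_comp]
    rw [← e1, ← e2, h1]
  mul_hom := by
    have mu_eq : ∀ (G : C) [GrpObj G], μ[G] = fst G G * snd G G := fun G _ => by rw [Hom.mul_def]; simp
    rw [mu_eq, h, mu_eq, MonObj.comp_mul]
    congr 1 <;> simp

theorem isMonHom_pow {E : C} [GrpObj E] (hc : ∀ (X : C) (x y : X ⟶ E), x * y = y * x) (n : ℕ) :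
    IsMonHom ((𝟙 E : E ⟶ E) ^ n) :=
  isMonHom_of_points _ fun X x y => by
    simp only [MonObj.comp_pow, Category.comp_id]
    exact (Commute.mul_pow (hc X x y) n)

end cat

variable {S : Scheme.{u}}

theorem of_cover {D E : Over S} [GrpObj D] [GrpObj E] (hD : SGA3x.IsMultTypeFT D) [IsSeparated E.hom]
    [QuasiCompact E.hom] [LocallyOfFiniteType E.hom] (q : D ⟶ E) [IsMonHom q] [Flat q.left]
    [Surjective q.left] : SGA3x.IsMultTypeFT E := by
  obtain ⟨Q, _, j, f', hj, hf', hjc, hQ, hfl, hsu, hfj⟩ :=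
    K21.Image.exists_image (K21.MultLoc.isMult_of_isMultTypeFT hD) q
  have h1 := K21.Image.dominant_of_cover q
  have h2 := K21.Image.dominant_of_cover f'
  have h3 : IsClosedImmersion (𝟙 E : E ⟶ E).left := inferInstanceAs (IsClosedImmersion (𝟙 E.left))
  obtain ⟨e, he, -⟩ := K21.Image.exists_iso j (𝟙 E) f' q (by rw [hfj, Category.comp_id])
  rw [Category.comp_id] at he
  have h4 : IsMonHom e.hom := by rw [he]; exact hj
  exact K10.MTLoc.of_iso' e hQ

theorem tensor {G H : Over S} [GrpObj G] [GrpObj H] (hG : SGA3x.IsMultTypeFT G) (hH : SGA3x.IsMultTypeFT H) :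
    SGA3x.IsMultTypeFT (G ⊗ H) := by
  refine K10.MTLoc.of_etale_split fun s => ?_
  obtain ⟨B, _, _, v, M, N, _, _, hv, hs, hM, hN, ⟨e⟩, ⟨f⟩⟩ := K6.HomLoc.exists_split_two hG hH s
  have hM' : Module.Finite ℤ M := Module.Finite.iff_addGroup_fg.2 hM
  have hN' : Module.Finite ℤ N := Module.Finite.iff_addGroup_fg.2 hN
  refine ⟨_, v, M × N, inferInstance, hv, hs, Module.Finite.iff_addGroup_fg.1 inferInstance, ⟨?_⟩⟩
  let e1 : Red.bc v (G ⊗ H) ≅ Red.bc v G ⊗ Red.bc v H := asIso (prodComparison (Over.pullback v) G H)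
  have i1 : IsMonHom e1.hom := inferInstanceAs
    (IsMonHom (lift ((Over.pullback v).map (fst G H)) ((Over.pullback v).map (snd G H))))
  let e2 : Red.bc v G ⊗ Red.bc v H ≅ Red.DS _ M ⊗ Red.DS _ N :=
    ((Grp.forget _).mapIso e) ⊗ᵢ ((Grp.forget _).mapIso f)
  have i2 : IsMonHom e2.hom := inferInstanceAs (IsMonHom (e.hom.hom.hom ⊗ₘ f.hom.hom.hom))
  let e3 : Red.DS _ M ⊗ Red.DS _ N ≅ Red.DS (Spec (CommRingCat.of B)) (M × N) := (K197.Isog.dsProd _ M N).symm
  have j1 := BorSpan613.isMonHom_DSmap (Spec (CommRingCat.of B)) (AddMonoidHom.inl M N)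
  have j2 := BorSpan613.isMonHom_DSmap (Spec (CommRingCat.of B)) (AddMonoidHom.inr M N)
  have i4 : IsMonHom (K197.Isog.dsProd (Spec (CommRingCat.of B)) M N).hom := inferInstanceAs
    (IsMonHom (lift (Red.DSmap _ (AddMonoidHom.inl M N)) (Red.DSmap _ (AddMonoidHom.inr M N))))
  have i3 : IsMonHom e3.hom := inferInstanceAs (IsMonHom (K197.Isog.dsProd (Spec (CommRingCat.of B)) M N).inv)
  have i5 : IsMonHom (e1 ≪≫ e2 ≪≫ e3).hom := inferInstanceAs (IsMonHom (e1.hom ≫ e2.hom ≫ e3.hom))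
  exact Grp.mkIso' (e1 ≪≫ e2 ≪≫ e3)

end K11.MTKit
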