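import Groth.Agent.SGA3x.K11.TorsBC
import Groth.Agent.SGA3x.K11.MTKit

/-!
# Exact sequences of group schemes: local lifting, third isomorphism theorem
-/

set_option autoImplicit false
universe v u
open CategoryTheory MonoidalCategory CartesianMonoidalCategory MonObj GrpObj AlgebraicGeometry Limits

namespace K11.ExtDesc

open TorsKit MTKit

variable {S : Scheme.{u}}

theorem exists_cover {X T H : Over S} (d : X ⟶ T) {f : H ⟶ T} (hf : Cov f.left) :
    ∃ (X' : Over S) (e : X' ⟶ X) (y : X' ⟶ H), Cov e.left ∧ y ≫ f = e ≫ d := by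
  refine ⟨pullback d f, pullback.fst d f, pullback.snd d f, ?_, pullback.condition.symm⟩
  exact MorphismProperty.of_isPullback (((IsPullback.of_hasPullback d f).flip).map (Over.forget S)) hf

/-- lifting along a monomorphism can be checked fpqc-locally -/
theorem exists_lift_of_local {T Q X X' : Over S} (c : T ⟶ Q) (hc : Mono c) (a : X ⟶ Q) {e : X' ⟶ X}
    (he : Cov e.left) (y : X' ⟶ T) (h : y ≫ c = e ≫ a) : ∃ t : X ⟶ T, t ≫ c = a := by
  obtain ⟨t, ht⟩ := exists_desc he y (by
    intro Z x x' hx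
    rw [← cancel_mono c, Category.assoc, Category.assoc, h, ← Category.assoc, hx, Category.assoc])
  have := epi_of_cov he
  refine ⟨t, ?_⟩
  rw [← cancel_epi e, ← Category.assoc, ht, h]

theorem mono_of_hom {T Q : Over S} [GrpObj T] [GrpObj Q] (c : T ⟶ Q) [IsMonHom c]
    (h : ∀ (X : Over S) (d : X ⟶ T), d ≫ c = 1 → d = 1) : Mono c := by
  refine ⟨fun {X} a b hab => ?_⟩
  have h1 := h X (a * b⁻¹) (by rw [MonObj.mul_comp, GrpObj.inv_comp, hab, mul_inv_cancel])
  exact mul_inv_eq_one.1 h1

/-- Third isomorphism theorem: if `H → T` and `E → Q` are quotient maps with the same kernel and `i : H → E` is the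
kernel of `E → Q → K`, then the induced `c : T → Q` is the kernel of `Q → K`. -/
theorem ker_desc {F H T E Q K : Over S} [GrpObj H] [GrpObj T] [GrpObj E] [GrpObj Q] [GrpObj K]
    {i : H ⟶ E} {f : H ⟶ T} {l : F ⟶ H} {q : E ⟶ Q} {c : T ⟶ Q} {r : Q ⟶ K} [IsMonHom i] [IsMonHom c]
    [IsMonHom r] (hf : Cov f.left) (hq : Cov q.left) (hlf : l ≫ f = 1) (hqk : Ker (l ≫ i) q) (hp : Ker i (q ≫ r))
    (hfc : f ≫ c = i ≫ q) : Ker c r := by
  have hef := epi_of_cov hf
  have hmi := hp.mono
  have hm : Mono c := by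
    refine mono_of_hom c fun X d hd => ?_
    obtain ⟨X', e, y, he, hy⟩ := exists_cover d hf
    have hee := epi_of_cov he
    obtain ⟨z, hz⟩ := hqk.lift (y ≫ i) (by
      rw [Category.assoc, ← hfc, ← Category.assoc, hy, Category.assoc, hd, MonObj.comp_one])
    have h1 : z ≫ l = y := by rw [← cancel_mono i, Category.assoc, hz]
    rw [← cancel_epi e, ← hy, ← h1, Category.assoc, hlf, MonObj.comp_one, MonObj.comp_one]
  refine ⟨?_, hm, fun {X} a ha => ?_⟩
  · rw [← cancel_epi f, ← Category.assoc, hfc, Category.assoc, hp.w, MonObj.comp_one]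
  · obtain ⟨X', e, y, he, hy⟩ := exists_cover a hq
    obtain ⟨b, hb⟩ := hp.lift y (by rw [← Category.assoc, hy, Category.assoc, ha, MonObj.comp_one])
    refine exists_lift_of_local c hm a he (b ≫ f) ?_
    rw [Category.assoc, hfc, ← Category.assoc, hb, hy]

/-- products of homomorphisms into commutative groups -/
theorem isMonHom_mul {D E : Over S} [GrpObj D] [GrpObj E] (hc : ∀ (X : Over S) (x y : X ⟶ E), x * y = y * x)
    (a b : D ⟶ E) [IsMonHom a] [IsMonHom b] : IsMonHom (a * b) :=
  isMonHom_of_points _ fun X x y => by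
    rw [MonObj.comp_mul, MonObj.comp_mul, MonObj.comp_mul, MonObj.mul_comp, MonObj.mul_comp, _root_.mul_assoc,
      _root_.mul_assoc, ← _root_.mul_assoc (y ≫ a), hc _ (y ≫ a), _root_.mul_assoc]

theorem quasiCompact_of_comp_of_surjective {X Y Z : Scheme.{u}} (f : X ⟶ Y) (g : Y ⟶ Z) [Surjective f]
    [QuasiCompact (f ≫ g)] : QuasiCompact g where
  isCompact_preimage U hU hc := by
    have h1 := QuasiCompact.isCompact_preimage (f := f ≫ g) U hU hc
    have h2 : (g ⁻¹' U : Set Y) = f '' ((f ≫ g) ⁻¹' U) := by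
      ext y
      constructor
      · intro hy
        obtain ⟨x, rfl⟩ := f.surjective y
        exact ⟨x, by rwa [Set.mem_preimage, Scheme.Hom.comp_apply], rfl⟩
      · rintro ⟨x, hx, rfl⟩
        rwa [Set.mem_preimage, Scheme.Hom.comp_apply] at hx
    rw [h2]
    exact h1.image f.continuous

/-- second factor of a faithfully flat morphism -/
theorem cov_of_comp {X Y Z : Scheme.{u}} (f : X ⟶ Y) (g : Y ⟶ Z) (hf : Cov f) (h : Cov (f ≫ g)) : Cov g := by
  have h1 := hf.1.1
  have h2 := h.1.1
  have h3 := h.2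
  have h4 := flat_of_comp f g hf h.1.2
  have h5 : Surjective g := Surjective.of_comp f g
  have h6 := quasiCompact_of_comp_of_surjective f g
  exact cov g

/-- the map onto a product of a kernel and a section, when it is hit by a cover -/
theorem cov_mul {F H E T : Over S} [GrpObj E] [GrpObj T] {k : F ⟶ E} {g : E ⟶ T} [IsMonHom g] (hk : Ker k g)
    (h : H ⟶ E) {P : MorphismProperty Scheme.{u}} [P.IsStableUnderBaseChange] (hP : P (h ≫ g).left) :
    P ((fst F H ≫ k) * (snd F H ≫ h)).left :=
  MorphismProperty.of_isPullback (split_left hk h) hP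

end K11.ExtDesc
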