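import Groth.Agent.SGA3x.K11.TorsKit
import Groth.Agent.Sga3.H829.Largest
import Groth.Agent.SGA3b.K201.MTBasics
import Groth.Agent.SGA3x.K10.MTLoc

/-!
# Commutative extensions of groups of multiplicative type over a field

* `isMultTypeFT`: over a field, a commutative extension of a group of multiplicative type by a group of multiplicative
  type is of multiplicative type.
-/

set_option autoImplicit false
universe u
open CategoryTheory MonoidalCategory CartesianMonoidalCategory MonObj GrpObj AlgebraicGeometry Limits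
open scoped TensorProduct

namespace K11.ExtField

open Groth.Agent Groth.Agent.Sga3.H829.MultConv Groth.Agent.Sga3.H829.Largest Groth.Agent.Books.AffBridge TorsKit
open Groth.Agent.Sga3.H793.UnipPart Groth.Agent.Sga3.H793.UnipPart2 Groth.Agent.Sga3.H793.MultPart
open WithConv Groth.Agent.Sga3A.ComodUnip

variable {k : Type u} [Field k]

theorem isMultTypeConst {A B D : Type u} [CommRing A] [HopfAlgebra k A] [CommRing B] [HopfAlgebra k B]
    [CommRing D] [HopfAlgebra k D] [Coalgebra.IsCocomm k A] [Algebra.FiniteType k A]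
    (i : SpecOver k D ⟶ SpecOver k A) [IsMonHom i] (p : SpecOver k A ⟶ SpecOver k B) [IsMonHom p]
    (hk : Ker i p) (hp : Cov p.left) (hD : SGA3b.IsMultTypeConst k D) (hB : SGA3b.IsMultTypeConst k B) :
    SGA3b.IsMultTypeConst k A := by
  obtain ⟨π, hπ⟩ := exists_bialgHom_of_isMonHom k i
  obtain ⟨φ, hφ⟩ := exists_bialgHom_of_isMonHom k p
  have hU := isHopfSubalgebra_unipSub (k := k) (A := A)
  let _ := Sga3C.SubHopf.hopfB hU
  let ψ : unipSub k A →ₐc[k] A := Sga3C.SubHopf.valB hU
  have hψ : ∀ b : unipSub k A, ψ b = b.1 := fun b => rfl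
  have i1 : IsMonHom (specMap k (ψ : unipSub k A →ₐ[k] A)) := isMonHom_specMap k ψ
  -- the largest unipotent quotient kills the kernel
  have h1 : i ≫ specMap k (ψ : unipSub k A →ₐ[k] A) = 1 := by
    rw [← hπ, ← specMap_comp, ← specMap_one]
    congr 1
    refine AlgHom.ext fun b => ?_
    obtain ⟨n, hn⟩ := b.2
    have h2 := eq_counit_of_mem_soc hD n _ (map_mem_soc π n b.1 hn)
    have h3 : CoalgebraStruct.counit (R := k) (π b.1) = CoalgebraStruct.counit (R := k) b.1 :=
      CoalgHomClass.counit_comp_apply π b.1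
    have h4 : CoalgebraStruct.counit (R := k) (ψ b) = CoalgebraStruct.counit (R := k) b :=
      CoalgHomClass.counit_comp_apply ψ b
    rw [AlgHom.convOne_def]
    change π b.1 = algebraMap k D (CoalgebraStruct.counit (R := k) b)
    rw [h2, h3, ← h4, hψ]
  obtain ⟨r, hrm, hr⟩ := exists_desc_hom hk hp (specMap k (ψ : unipSub k A →ₐ[k] A)) h1
  obtain ⟨ρ, hρ⟩ := exists_bialgHom_of_isMonHom k r
  have hfac : ∀ b : unipSub k A, φ (ρ b) = b.1 := by
    intro b
    have h5 : specMap k ((φ : B →ₐ[k] A).comp (ρ : unipSub k A →ₐ[k] B)) =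
        specMap k (ψ : unipSub k A →ₐ[k] A) := by
      rw [specMap_comp, hφ, hρ, hr]
    exact AlgHom.congr_fun (specMap_injective k h5) b
  have hφi : Function.Injective φ := by
    have h6 := hp.1.1
    have h7 := hp.1.2
    have h8 : (φ : B →ₐ[k] A).toRingHom.FaithfullyFlat := by
      rw [← hφ] at h6 h7
      exact (flat_and_surjective_SpecMap_iff (f := CommRingCat.ofHom (φ : B →ₐ[k] A).toRingHom)).1 ⟨h7, h6⟩
    exact h8.injective
  have hzero : multIdeal k A = ⊥ := by
    rw [eq_bot_iff]
    refine Ideal.span_le.2 ?_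
    rintro b ⟨hb, hb0⟩
    obtain ⟨n, hn⟩ := hb
    have h9 := hfac ⟨b, n, hn⟩
    have h10 : ρ ⟨b, n, hn⟩ ∈ soc k B B n := mem_soc_of_map φ hφi n _ (by rw [h9]; exact hn)
    have h11 := eq_counit_of_mem_soc hB n _ h10
    have h12 : CoalgebraStruct.counit (R := k) (φ (ρ ⟨b, n, hn⟩)) =
        CoalgebraStruct.counit (R := k) (ρ ⟨b, n, hn⟩) := CoalgHomClass.counit_comp_apply φ _
    rw [h9] at h12
    have hb0' : CoalgebraStruct.counit (R := k) b = 0 := hb0
    rw [← h12, hb0', map_zero] at h11
    rw [h11, map_zero] at h9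
    exact h9.symm
  have hbij : Function.Bijective (Bialgebra.Quotient.mkBialgHom (R := k) (multIdeal k A)) := by
    refine ⟨?_, Ideal.Quotient.mk_surjective⟩
    rw [injective_iff_map_eq_zero]
    intro a ha
    have ha' : a ∈ multIdeal k A := Ideal.Quotient.eq_zero_iff_mem.1 ha
    rwa [hzero] at ha'
  let e : A ≃ₐc[k] (A ⧸ multIdeal k A) := BialgEquiv.ofBijective _ hbij
  exact K201.MTBasics.isMultTypeConst_congr e.symm isMultTypeConst_quotient

/-- Over a field, a commutative extension of a group of multiplicative type by a group of multiplicative type is of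
multiplicative type. -/
theorem isMultTypeFT {E H K : Over (Spec (CommRingCat.of k))} [GrpObj E] [GrpObj H] [GrpObj K]
    {p : E ⟶ K} [IsMonHom p] {i : H ⟶ E} [IsMonHom i] (hk : Ker i p) (hp : Cov p.left)
    (hc : ∀ (X : Over (Spec (CommRingCat.of k))) (x y : X ⟶ E), x * y = y * x)
    (hH : SGA3x.IsMultTypeFT H) (hK : SGA3x.IsMultTypeFT K) : SGA3x.IsMultTypeFT E := by
  have hHa : IsAffineHom H.hom := isAffineHom_of_isMultTypeFT hH
  have hKa : IsAffineHom K.hom := isAffineHom_of_isMultTypeFT hK
  have hHa' : IsAffine H.left := isAffine_of_isAffineHom H.hom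
  have hKa' : IsAffine K.left := isAffine_of_isAffineHom K.hom
  have hpa : IsAffineHom p.left := isAffineHom_left hk hp hHa
  have hEa : IsAffine E.left := isAffine_of_isAffineHom p.left
  have hHf : LocallyOfFinitePresentation H.hom := K10.MTLoc.locallyOfFinitePresentation hH
  have hKf : LocallyOfFinitePresentation K.hom := K10.MTLoc.locallyOfFinitePresentation hK
  have hpf : LocallyOfFinitePresentation p.left := prop_left (P := @LocallyOfFinitePresentation) hk hp hHf
  have hEf : LocallyOfFiniteType E.hom := by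
    rw [← Over.w p]
    infer_instance
  obtain ⟨A, _, _, eE, heE⟩ := exists_hopf k E
  obtain ⟨B, _, _, eK, heK⟩ := exists_hopf k K
  obtain ⟨D, _, _, eH, heH⟩ := exists_hopf k H
  have hft : Algebra.FiniteType k A := by
    have h1 : LocallyOfFiniteType (SpecOver k A).hom := by
      rw [← Over.w eE.inv]; infer_instance
    have h2 : LocallyOfFiniteType (Spec.map (CommRingCat.ofHom (algebraMap k A))) := h1
    rw [HasRingHomProperty.Spec_iff (P := @LocallyOfFiniteType)] at h2
    exact (RingHom.finiteType_algebraMap).mp h2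
  have hco : Coalgebra.IsCocomm k A := by
    apply isCocomm_of_points
    intro X x y
    have h1 := hc X (x ≫ eE.inv) (y ≫ eE.inv)
    rwa [← MonObj.mul_comp, ← MonObj.mul_comp, cancel_mono] at h1
  have hk' : Ker (eH.inv ≫ i ≫ eE.hom) (eE.inv ≫ p ≫ eK.hom) := hk.iso eH eE eK rfl rfl
  have hp' : Cov (eE.inv ≫ p ≫ eK.hom).left := by
    have h1 := hp.1.1
    have h2 := hp.1.2
    have h3 := hp.2
    rw [Over.comp_left, Over.comp_left]
    exact cov _
  have hD : SGA3b.IsMultTypeConst k D := isMultTypeConst_of_isMultTypeFT (K10.MTLoc.of_iso' eH hH)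
  have hB : SGA3b.IsMultTypeConst k B := isMultTypeConst_of_isMultTypeFT (K10.MTLoc.of_iso' eK hK)
  have hinv : IsMonHom eE.symm.hom := inferInstanceAs (IsMonHom eE.inv)
  exact K10.MTLoc.of_iso' eE.symm (isMultTypeFT_of_isMultTypeConst
    (isMultTypeConst (eH.inv ≫ i ≫ eE.hom) (eE.inv ≫ p ≫ eK.hom) hk' hp' hD hB))

end K11.ExtField
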