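import Groth.Agent.SGA3x.K11.TorsKit
import Groth.Agent.Sga3B.KerGrp
import Groth.Agent.Sga3.H798.FpqcIso

/-!
# Short exact sequences of group schemes: base change, existence of kernels
-/

set_option autoImplicit false
universe v u
open CategoryTheory MonoidalCategory CartesianMonoidalCategory MonObj GrpObj AlgebraicGeometry Limits
open Groth.Agent Groth.Agent.Sga3B Groth.Agent.Sga3B.BcPts Groth.Agent.Sga3B.KerGrp

namespace K11.TorsKit

variable {S S' : Scheme.{u}}

theorem Ker.bc {F E T : Over S} [GrpObj T] {k : F ⟶ E} {g : E ⟶ T} (hk : Ker k g) (v : S' ⟶ S) :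
    Ker (T := Red.bc v T) ((Over.pullback v).map k) ((Over.pullback v).map g) := by
  have := hk.mono
  refine ⟨?_, inferInstance, fun {X} a ha => ?_⟩
  · rw [← Functor.map_comp, hk.w, Functor.map_one]
  · have h3 : (bcEquiv v X E).symm a ≫ g = 1 := by
      rw [← bcEquiv_symm_comp, ha]
      exact (bcEquiv v X T).symm_apply_eq.mpr (bcEquiv_one v).symm
    obtain ⟨y, hy⟩ := hk.lift _ h3
    refine ⟨bcEquiv v X F y, ?_⟩
    change bcEquiv v X F y ≫ (Over.pullback v).map k = a
    rw [← bcEquiv_comp, hy, Equiv.apply_symm_apply]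

theorem cov_bc {E T : Over S} {g : E ⟶ T} (hg : Cov g.left) (v : S' ⟶ S) : Cov ((Over.pullback v).map g).left :=
  MorphismProperty.of_isPullback (Sga3.H798.FpqcIso.isPullback_map_left v g) hg

theorem comm_bc {E : Over S} [GrpObj E] (hc : ∀ (X : Over S) (x y : X ⟶ E), x * y = y * x) (v : S' ⟶ S)
    (X : Over S') (x y : X ⟶ Red.bc v E) : x * y = y * x := by
  apply (bcMulEquiv v X E).symm.injective
  rw [map_mul, map_mul]
  exact hc _ _ _

theorem ker_kerι {G H : Over S} [GrpObj G] [GrpObj H] (u : G ⟶ H) : Ker (kerι u) u :=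
  (Ker.iff_isPullback _ _).2 (isPullback_ker u)

/-- The kernel of the restriction of `g` along the projection of an exact sequence. -/
theorem Ker.isPullback {F E T : Over S} [GrpObj T] {k : F ⟶ E} {g : E ⟶ T} (hk : Ker k g) :
    IsPullback k.left (toUnit F).left g.left (η[T] : 𝟙_ (Over S) ⟶ T).left :=
  ((Ker.iff_isPullback k g).1 hk).map (Over.forget S)

/-- a property of `g` passes to the structure morphism of its kernel -/
theorem Ker.prop_hom {P : MorphismProperty Scheme.{u}} [P.IsStableUnderBaseChange]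
    {F E T : Over S} [GrpObj T] {k : F ⟶ E} {g : E ⟶ T} (hk : Ker k g) (h : P g.left) : P F.hom := by
  have h1 : P (toUnit F).left := MorphismProperty.of_isPullback hk.isPullback h
  have h2 : (toUnit F).left = F.hom := by
    have := Over.w (toUnit F)
    rw [← this]
    exact (Category.comp_id _).symm
  rwa [h2] at h1

theorem Ker.isClosedImmersion {F E T : Over S} [GrpObj T] {k : F ⟶ E} {g : E ⟶ T} (hk : Ker k g)
    [IsSeparated T.hom] : IsClosedImmersion k.left := by
  have h0 : IsClosedImmersion (𝟙 S) := IsClosedImmersion.instOfIsIsoScheme _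
  have h1 : IsClosedImmersion ((η[T] : 𝟙_ (Over S) ⟶ T).left ≫ T.hom) := by
    rw [unit_w]
    exact h0
  have h2 : IsClosedImmersion (η[T] : 𝟙_ (Over S) ⟶ T).left := IsClosedImmersion.of_comp _ T.hom
  exact MorphismProperty.of_isPullback (P := @IsClosedImmersion) hk.isPullback.flip h2

end K11.TorsKit
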