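import Groth.Agent.SGA3b.K202.DualEtale
import Groth.Agent.SGA3b.K202.ConnRing
import Groth.Agent.Sga3A.FibMain
import Groth.Agent.SGA3x.K13.MTHopf
import Groth.Agent.Sga3.H829.Largest
import Groth.Agent.SGA3x.K11.TorsBC
import Mathlib.RingTheory.Smooth.Fiber

/-!
# Finite flat commutative group schemes with fibres of multiplicative type

* `isMultTypeFT`: a finite, flat, finitely presented commutative group scheme all of whose geometric fibres are of
  multiplicative type is of multiplicative type.
-/

set_option autoImplicit false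
universe u
open CategoryTheory MonoidalCategory CartesianMonoidalCategory MonObj GrpObj AlgebraicGeometry Limits
open scoped TensorProduct
open SGA3b IsLocalRing

namespace K11.FinMT

open Groth.Agent Groth.Agent.Sga3A Groth.Agent.Sga3A.MTBasis Groth.Agent.Sga3A.BCIso

theorem unramified_of_closedFibre {R D : Type*} [CommRing R] [IsLocalRing R] [CommRing D] [Algebra R D]
    [Module.Finite R D] (h : Algebra.FormallyUnramified (ResidueField R) (ResidueField R ⊗[R] D)) :
    Algebra.FormallyUnramified R D := by
  have h1 : Subsingleton (Ω[(ResidueField R ⊗[R] D)⁄(ResidueField R)]) := h.1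
  let _ : Algebra D (ResidueField R ⊗[R] D) := Algebra.TensorProduct.rightAlgebra
  have h2 : Subsingleton (ResidueField R ⊗[R] Ω[D⁄R]) :=
    (KaehlerDifferential.tensorKaehlerEquivBase R (ResidueField R) D (ResidueField R ⊗[R] D)).toEquiv.subsingleton
  have h3 : Module.Finite R (Ω[D⁄R]) := Module.Finite.trans D _
  exact ⟨IsLocalRing.subsingleton_tensorProduct.1 h2⟩

theorem connectedSpace_of_isLocalRing (R : Type*) [CommRing R] [IsLocalRing R] :
    ConnectedSpace (PrimeSpectrum R) := by
  have : PreconnectedSpace (PrimeSpectrum R) := by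
    rw [preconnectedSpace_iff_clopen]
    intro s hs
    by_cases h : IsLocalRing.closedPoint R ∈ s
    · right
      rw [Set.eq_univ_iff_forall]
      intro x
      exact (IsLocalRing.specializes_closedPoint x).mem_open hs.2 h
    · left
      rw [Set.eq_empty_iff_forall_notMem]
      intro x hx
      exact (IsLocalRing.specializes_closedPoint x).mem_open hs.1.isOpen_compl h hx
  exact ⟨⟨closedPoint R⟩⟩

/-- The local case, closed fibre only. -/
theorem isMultTypeConst_of_isLocalRing (R A : Type u) [CommRing R] [IsLocalRing R] [CommRing A] [HopfAlgebra R A]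
    [Coalgebra.IsCocomm R A] [Module.Finite R A] [Module.Flat R A] [Algebra.FinitePresentation R A]
    (h : IsMultTypeConst (ResidueField R) (ResidueField R ⊗[R] A)) : IsMultTypeConst R A := by
  have hfp : Module.FinitePresentation R A := Module.FinitePresentation.of_finite_of_finitePresentation R A
  have hpr : Module.Projective R A := Module.Flat.projective_of_finitePresentation
  obtain ⟨S, _, _, hS, M, _, ⟨e⟩⟩ := h
  let _ : Algebra R S := ((algebraMap (ResidueField R) S).comp (algebraMap R (ResidueField R))).toAlgebra
  have : IsScalarTower R (ResidueField R) S := .of_algebraMap_eq' rfl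
  have g : GBasis S (S ⊗[R] A) M := (GBasis.ofBialgEquiv e).map (cancelBialg R (ResidueField R) S A)
  have h1 : Algebra.Etale (ResidueField R) (ResidueField R ⊗[R] WithConv (A →ₗ[R] R)) :=
    K202.DualEtale.etale_away_of_tower (K202.DualEtale.etale_bc_of_gbasis g)
  have hDf : Module.Finite R (WithConv (A →ₗ[R] R)) :=
    Module.Finite.equiv (WithConv.linearEquiv R (A →ₗ[R] R)).symm
  have hDp : Module.Projective R (WithConv (A →ₗ[R] R)) :=
    Module.Projective.of_equiv (WithConv.linearEquiv R (A →ₗ[R] R)).symm
  have h2 : Algebra.FormallyUnramified R (WithConv (A →ₗ[R] R)) := unramified_of_closedFibre inferInstance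
  have hDfp : Module.FinitePresentation R (WithConv (A →ₗ[R] R)) := Module.finitePresentation_of_projective R _
  have hDfp' : Algebra.FinitePresentation R (WithConv (A →ₗ[R] R)) := inferInstance
  have h3 : Algebra.Etale R (WithConv (A →ₗ[R] R)) := Algebra.Etale.of_formallyUnramified_of_flat
  have hcR : ConnectedSpace (PrimeSpectrum R) := connectedSpace_of_isLocalRing R
  obtain ⟨T, _, _, hT, -, -, hconn, hsp⟩ := K202.ConnRing.exists_connected_split R (WithConv (A →ₗ[R] R))
  exact ⟨T, _, _, hT, K202.DualSplit.isDiag_of_split hsp⟩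

/-- The Hopf form. -/
theorem isMultType {R A : Type u} [CommRing R] [CommRing A] [HopfAlgebra R A] [Coalgebra.IsCocomm R A]
    [Module.Finite R A] [Module.Flat R A] [Algebra.FinitePresentation R A]
    (h : ∀ (K : Type u) [Field K] [Algebra R K], IsMultTypeConst K (K ⊗[R] A)) : IsMultType R A := by
  refine FibSpread.isMultType_of_forall_localization' R A @S2973.result fun p _ => FibMain.isMultType_of_const ?_
  refine isMultTypeConst_of_isLocalRing (Localization.AtPrime p) (Localization.AtPrime p ⊗[R] A) ?_
  let k := ResidueField (Localization.AtPrime p)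
  have h1 := h k
  exact K201.MTBasics.isMultTypeConst_congr (cancelBialg R (Localization.AtPrime p) k A).symm h1

open Groth.Agent.Books.AffBridge Groth.Agent.Sga3B WithConv in
/-- A Hopf algebra whose groups of points are commutative is cocommutative. -/
theorem isCocomm_of_points {k : Type u} [CommRing k] {A : Type u} [CommRing A] [HopfAlgebra k A]
    (h : ∀ (X : Over (Spec (CommRingCat.of k))) (x y : X ⟶ SpecOver k A), x * y = y * x) :
    Coalgebra.IsCocomm k A where
  comm_comp_comul := by
    let i₁ : WithConv (A →ₐ[k] A ⊗[k] A) := toConv Algebra.TensorProduct.includeLeft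
    let i₂ : WithConv (A →ₐ[k] A ⊗[k] A) := toConv Algebra.TensorProduct.includeRight
    have h1 : i₁ * i₂ = i₂ * i₁ := by
      apply WithConv.ofConv_injective
      apply specMap_injective k
      rw [specMap_mul, specMap_mul]
      exact h _ _ _
    ext a
    have h2 := congrArg (fun z : WithConv (A →ₐ[k] A ⊗[k] A) => z.ofConv a) h1
    simp only [Sga3.H829.RigidGrp.mul_ofConv] at h2
    have e1 : ∀ t : A ⊗[k] A, LinearMap.mul' k (A ⊗[k] A)
        (TensorProduct.map i₁.ofConv.toLinearMap i₂.ofConv.toLinearMap t) = t := by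
      intro t
      induction t with
      | zero => simp
      | add x y hx hy => rw [map_add, map_add, hx, hy]
      | tmul x y =>
        rw [TensorProduct.map_tmul, LinearMap.mul'_apply]
        change (x ⊗ₜ[k] (1 : A)) * ((1 : A) ⊗ₜ[k] y) = _
        rw [Algebra.TensorProduct.tmul_mul_tmul, _root_.mul_one, _root_.one_mul]
    have e2 : ∀ t : A ⊗[k] A, LinearMap.mul' k (A ⊗[k] A)
        (TensorProduct.map i₂.ofConv.toLinearMap i₁.ofConv.toLinearMap t) = TensorProduct.comm k A A t := by
      intro t
      induction t with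
      | zero => simp
      | add x y hx hy => rw [map_add, map_add, hx, hy, map_add]
      | tmul x y =>
        rw [TensorProduct.map_tmul, LinearMap.mul'_apply]
        change ((1 : A) ⊗ₜ[k] x) * (y ⊗ₜ[k] (1 : A)) = _
        rw [Algebra.TensorProduct.tmul_mul_tmul, _root_.mul_one, _root_.one_mul]
        rfl
    rw [e1, e2] at h2
    exact h2.symm

open Groth.Agent.Books.AffBridge Groth.Agent.Sga3B in
/-- The affine case. -/
theorem isMultTypeFT_of_affine {R : Type u} [CommRing R] (F : Over (Spec (CommRingCat.of R))) [GrpObj F]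
    [IsFinite F.hom] [Flat F.hom] [LocallyOfFinitePresentation F.hom]
    (hc : ∀ (X : Over (Spec (CommRingCat.of R))) (x y : X ⟶ F), x * y = y * x)
    (h : ∀ (K : Type u) [Field K] (x : Spec (CommRingCat.of K) ⟶ Spec (CommRingCat.of R)),
      SGA3x.IsMultTypeFT (Red.bc x F)) : SGA3x.IsMultTypeFT F := by
  have haff : IsAffine F.left := isAffine_of_isAffineHom F.hom
  obtain ⟨A, _, _, e, he⟩ := exists_hopf R F
  have hinv : IsMonHom e.symm.hom := inferInstanceAs (IsMonHom e.inv)
  have e' : Grp.mk F ≅ Grp.mk (SpecOver R A) := Grp.mkIso' e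
  have h1 : Flat (SpecOver R A).hom := by rw [← Over.w e.inv]; infer_instance
  have h2 : LocallyOfFinitePresentation (SpecOver R A).hom := by rw [← Over.w e.inv]; infer_instance
  have h3 : IsFinite (SpecOver R A).hom := by rw [← Over.w e.inv]; infer_instance
  have i1 : Module.Flat R A := by
    have h1' : Flat (Spec.map (CommRingCat.ofHom (algebraMap R A))) := h1
    rw [HasRingHomProperty.Spec_iff (P := @Flat)] at h1'
    exact RingHom.flat_algebraMap_iff.mp h1'
  have i2 : Algebra.FinitePresentation R A := by
    have h2' : LocallyOfFinitePresentation (Spec.map (CommRingCat.ofHom (algebraMap R A))) := h2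
    rw [HasRingHomProperty.Spec_iff (P := @LocallyOfFinitePresentation)] at h2'
    exact RingHom.finitePresentation_algebraMap.mp h2'
  have i3 : Module.Finite R A := by
    have h3' : IsFinite (Spec.map (CommRingCat.ofHom (algebraMap R A))) := h3
    rw [IsFinite.SpecMap_iff] at h3'
    exact RingHom.finite_algebraMap.mp h3'
  have i4 : Coalgebra.IsCocomm R A := by
    apply isCocomm_of_points
    intro X x y
    have h1 := hc X (x ≫ e.inv) (y ≫ e.inv)
    rwa [← MonObj.mul_comp, ← MonObj.mul_comp, cancel_mono] at h1
  have hmt : IsMultType R A := isMultType fun K _ _ => by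
    obtain ⟨e₁⟩ := Hens.Dict.bc_specOver R A K
    exact Sga3.H829.MultConv.isMultTypeConst_of_isMultTypeFT (K10.MTLoc.of_iso
      ((BcIso.bcMapIso _ e') ≪≫ e₁) (h K (Spec.map (CommRingCat.ofHom (algebraMap R K)))))
  exact K10.MTLoc.of_iso' e.symm (K13.MTHopf.isMultTypeFT_of_isMultType hmt fun T _ _ => inferInstance)

/-- **Finite flat commutative group schemes with fibres of multiplicative type are of multiplicative type.** -/
theorem isMultTypeFT {S : Scheme.{u}} (F : Over S) [GrpObj F]
    [IsFinite F.hom] [Flat F.hom] [LocallyOfFinitePresentation F.hom]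
    (hc : ∀ (X : Over S) (x y : X ⟶ F), x * y = y * x)
    (h : ∀ (K : Type u) [Field K] (x : Spec (CommRingCat.of K) ⟶ S), SGA3x.IsMultTypeFT (Red.bc x F)) :
    SGA3x.IsMultTypeFT F := by
  refine K10.MTLoc.of_etale fun s => ?_
  obtain ⟨R, _, q, hq, -, hx⟩ := Groth.Agent.Sga3B.NearRed.exists_affine S ⊤ s trivial
  refine ⟨_, q, inferInstance, hx, ?_⟩
  have h1 : IsFinite (Red.bc q F).hom := inferInstanceAs (IsFinite (pullback.snd F.hom q))
  have h2 : Flat (Red.bc q F).hom := inferInstanceAs (Flat (pullback.snd F.hom q))
  have h3 : LocallyOfFinitePresentation (Red.bc q F).hom :=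
    inferInstanceAs (LocallyOfFinitePresentation (pullback.snd F.hom q))
  exact isMultTypeFT_of_affine (Red.bc q F) (TorsKit.comm_bc hc q) fun K _ x =>
    K10.MTLoc.of_iso (Groth.Agent.Sga3B.BcIso.bcCompIso x q F) (h K (x ≫ q))

end K11.FinMT
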