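import Groth.Agent.SGA3x.K11.ExtTorus2
import Groth.Agent.SGA3x.K11.FinMT
import Groth.Agent.Flat2D.LfpComp

/-!
# Commutative extensions of finite groups of multiplicative type by diagonalizable groups
-/

set_option autoImplicit false
set_option maxHeartbeats 1000000
universe v u
open CategoryTheory MonoidalCategory CartesianMonoidalCategory MonObj GrpObj AlgebraicGeometry Limits
open Groth.Agent Groth.Agent.Sga3B

namespace K11.ExtFin

open K197.Isog TorsKit MTKit PowMT ExtDesc ExtTorus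

variable {S : Scheme.{u}}

/-- A finite commutative extension of groups of multiplicative type is of multiplicative type. -/
theorem of_isFinite {E H K : Over S} [GrpObj E] [GrpObj H] [GrpObj K] {i : H ⟶ E} {p : E ⟶ K} [IsMonHom i]
    [IsMonHom p] (hk : Ker i p) (hp : Cov p.left) (hc : ∀ (X : Over S) (x y : X ⟶ E), x * y = y * x)
    (hH : SGA3x.IsMultTypeFT H) (hK : SGA3x.IsMultTypeFT K) [IsFinite H.hom] [IsFinite K.hom] :
    SGA3x.IsMultTypeFT E := by
  obtain ⟨haff, hflat, hlfp⟩ := props hk hp hH hK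
  have hfin : IsFinite E.hom := prop_hom (P := @IsFinite) hk hp inferInstance inferInstance
  exact FinMT.isMultTypeFT E hc fun F _ x =>
    ExtField.isMultTypeFT (hk.bc x) (cov_bc hp x) (comm_bc hc x) (K10.MTLoc.bc x hH) (K10.MTLoc.bc x hK)

/-- `E` a commutative extension of a finite group `K` killed by `n` by `H`, and `f : H → T` a homomorphism such that
`x ↦ f (x ^ n)` is an isogeny. -/
theorem of_data {E K H T F : Over S} [GrpObj E] [GrpObj K] [GrpObj H] [GrpObj T] [GrpObj F]
    {i : H ⟶ E} {p : E ⟶ K} {f : H ⟶ T} {l : F ⟶ H} [IsMonHom i] [IsMonHom p] [IsMonHom f] [IsMonHom l]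
    (hk : Ker i p) (hp : Cov p.left)
    (hc : ∀ (X : Over S) (x y : X ⟶ E), x * y = y * x) (hH : SGA3x.IsMultTypeFT H) (hK : SGA3x.IsMultTypeFT K)
    (hT : SGA3x.IsMultTypeFT T) (hF : SGA3x.IsMultTypeFT F) (n : ℕ) [IsFinite K.hom]
    (hn : (𝟙 K : K ⟶ K) ^ n = 1) (hl : Ker l (((𝟙 H : H ⟶ H) ^ n) ≫ f))
    (hf : IsIsog (((𝟙 H : H ⟶ H) ^ n) ≫ f).left) : SGA3x.IsMultTypeFT E := by
  obtain ⟨haff, hflat, hlfp⟩ := props hk hp hH hK
  have i0 := isMonHom_pow hc n
  have hmi := hk.mono
  have hTaff := K10.MTLoc.isAffineHom hT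
  have hHfl := K10.MTLoc.flat hH
  have hHaff := K10.MTLoc.isAffineHom hH
  obtain ⟨g, hg⟩ := hk.lift ((𝟙 E : E ⟶ E) ^ n) (by
    rw [MonObj.pow_comp, Category.id_comp]
    have : p ≫ ((𝟙 K : K ⟶ K) ^ n) = 1 := by rw [hn, MonObj.comp_one]
    rwa [MonObj.comp_pow, Category.comp_id] at this)
  have hgm : IsMonHom g := isMonHom_of_points g fun X x y => by
    rw [← cancel_mono i, Category.assoc, hg, MonObj.mul_comp, MonObj.mul_comp, Category.assoc, Category.assoc, hg]
  have hig : i ≫ g = (𝟙 H : H ⟶ H) ^ n := by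
    rw [← cancel_mono i, Category.assoc, hg, MonObj.comp_pow, Category.comp_id, MonObj.pow_comp, Category.id_comp]
  let g' : E ⟶ T := g ≫ f
  have hig' : i ≫ g' = ((𝟙 H : H ⟶ H) ^ n) ≫ f := by
    change i ≫ g ≫ f = _
    rw [← Category.assoc, hig]
  -- the kernel of `g'`
  obtain ⟨hD, hDm⟩ := KerGrp.exists_grpObj g'
  let D := KerGrp.kerObj g'
  let k : D ⟶ E := KerGrp.kerι g'
  have hkg : Ker k g' := ker_kerι g'
  have hkmono := hkg.mono
  have hkcl : IsClosedImmersion k.left := hkg.isClosedImmersion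
  have hDaff : IsAffineHom D.hom := by rw [← Over.w k]; infer_instance
  have hμ : IsIsog ((fst D H ≫ k) * (snd D H ≫ i)).left := cov_mul hkg i (P := IsIsog) (by rw [hig']; exact hf)
  have hμm : IsMonHom ((fst D H ≫ k) * (snd D H ≫ i)) := isMonHom_mul hc _ _
  obtain ⟨hμ1, hμ2, hμ3⟩ := (isIsog_iff _).1 hμ
  have hHs : Surjective H.hom := by
    have h1 : (η[H] : 𝟙_ (Over S) ⟶ H).left ≫ H.hom = 𝟙 S := Over.w (η[H] : 𝟙_ (Over S) ⟶ H)
    have h0 : Surjective (𝟙 S) := inferInstance
    have h2 : Surjective ((η[H] : 𝟙_ (Over S) ⟶ H).left ≫ H.hom) := by rw [h1]; exact h0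
    exact Surjective.of_comp (η[H] : 𝟙_ (Over S) ⟶ H).left H.hom
  have hfst : Cov (fst D H).left := prop_fst (P := Cov) (cov _)
  have hDfl : Flat D.hom := by
    refine flat_of_comp (fst D H).left D.hom hfst ?_
    have h1 : (fst D H).left ≫ D.hom = ((fst D H ≫ k) * (snd D H ≫ i)).left ≫ E.hom := by
      rw [Over.w, Over.w]
    rw [h1]
    infer_instance
  -- the map `D → K`
  let π : D ⟶ K := k ≫ p
  have hπ : fst D H ≫ π = ((fst D H ≫ k) * (snd D H ≫ i)) ≫ p := by
    rw [MonObj.mul_comp, Category.assoc, Category.assoc, hk.comp_w, _root_.mul_one]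
  have hπc : Cov π.left := by
    refine cov_of_comp (fst D H).left π.left hfst ?_
    rw [← Over.comp_left, hπ, Over.comp_left]
    exact MorphismProperty.comp_mem _ _ _ (cov_of_isIsog hμ) hp
  -- the kernel of `π`
  obtain ⟨z, hz⟩ := hkg.lift (l ≫ i) (by rw [Category.assoc, hig', hl.w])
  have hlm := hl.mono
  have hzm : IsMonHom z := isMonHom_of_points z fun X x y => by
    rw [← cancel_mono k, Category.assoc, hz, MonObj.mul_comp, MonObj.mul_comp, Category.assoc, Category.assoc, hz]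
  have hzk : Ker z π := by
    refine ⟨?_, ?_, fun {X} a ha => ?_⟩
    · change z ≫ k ≫ p = 1
      rw [← Category.assoc, hz, Category.assoc, hk.w, MonObj.comp_one]
    · have : Mono (z ≫ k) := by rw [hz]; infer_instance
      exact mono_of_mono z k
    · obtain ⟨b, hb⟩ := hk.lift (a ≫ k) (by rw [Category.assoc]; exact ha)
      obtain ⟨c, hc'⟩ := hl.lift b (by
        rw [← hig', ← Category.assoc, hb, Category.assoc, hkg.w, MonObj.comp_one])
      exact ⟨c, by rw [← cancel_mono k, Category.assoc, hz, ← Category.assoc, hc', hb]⟩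
  have hFfin : IsFinite F.hom := hl.prop_hom (P := @IsFinite) ((isIsog_iff _).1 hf).2.2
  have hcD : ∀ (X : Over S) (x y : X ⟶ D), x * y = y * x := fun X x y => by
    rw [← cancel_mono k, MonObj.mul_comp, MonObj.mul_comp]
    exact hc _ _ _
  have hDmt : SGA3x.IsMultTypeFT D := of_isFinite hzk hπc hcD hF hK
  exact of_cover (tensor hDmt hH) ((fst D H ≫ k) * (snd D H ≫ i))

/-- a commutative extension of a finite group of multiplicative type by `D(M)` -/
theorem isMultTypeFT_of_finite {E K : Over S} [GrpObj E] [GrpObj K] {M : Type} [AddCommGroup M] [Module.Finite ℤ M]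
    {i : Red.DS S M ⟶ E} {p : E ⟶ K} [IsMonHom i] [IsMonHom p] (hk : Ker i p) (hp : Cov p.left)
    (hc : ∀ (X : Over S) (x y : X ⟶ E), x * y = y * x) (hK : SGA3x.IsMultTypeFT K) [IsFinite K.hom]
    (n : ℕ) (hn0 : 0 < n) (hn : (𝟙 K : K ⟶ K) ^ n = 1) : SGA3x.IsMultTypeFT E := by
  obtain ⟨m, hm0, hm⟩ := exists_mul M
  have j1 := BorSpan613.isMonHom_DSmap S ((nsmulAddMonoidHom (α := M) m).range.subtype)
  have hNfin : Module.Finite ℤ (nsmulAddMonoidHom (α := M) m).range :=
    Module.Finite.of_injective ((nsmulAddMonoidHom (α := M) m).range.subtype).toIntLinearMap Subtype.val_injective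
  let ψ := QuotientAddGroup.mk' (n • (nsmulAddMonoidHom (α := M) m).range.subtype).range
  have hψ : Function.Surjective ψ := QuotientAddGroup.mk'_surjective _
  have hLfin : Module.Finite ℤ (M ⧸ (n • (nsmulAddMonoidHom (α := M) m).range.subtype).range) :=
    Module.Finite.of_surjective ψ.toIntLinearMap hψ
  have j2 := BorSpan613.isMonHom_DSmap S ψ
  have e1 : ((𝟙 (Red.DS S M) : Red.DS S M ⟶ Red.DS S M) ^ n) ≫
      Red.DSmap S ((nsmulAddMonoidHom (α := M) m).range.subtype) =
      Red.DSmap S (n • (nsmulAddMonoidHom (α := M) m).range.subtype) := pow_comp_DSmap S _ n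
  refine of_data (H := Red.DS S M) (T := Red.DS S (nsmulAddMonoidHom (α := M) m).range)
    (F := Red.DS S (M ⧸ (n • (nsmulAddMonoidHom (α := M) m).range.subtype).range)) hk hp hc (isMultTypeFT_DS _) hK
    (isMultTypeFT_DS _) (isMultTypeFT_DS _) n hn (f := Red.DSmap S ((nsmulAddMonoidHom (α := M) m).range.subtype))
    (l := Red.DSmap S ψ) ?_ ?_
  · rw [e1]
    refine ker_DSmap _ _ hψ (fun x => ?_) (fun x hx => ?_)
    · exact (QuotientAddGroup.eq_zero_iff _).2 ⟨x, rfl⟩
    · exact (QuotientAddGroup.eq_zero_iff _).1 hx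
  · rw [e1]
    refine isIsog_DSmap S _ ?_ fun x => ⟨n * m, by positivity, ⟨⟨m • x, x, rfl⟩, ?_⟩⟩
    · rw [injective_iff_map_eq_zero]
      intro x hx
      obtain ⟨y, hy⟩ := x.2
      apply Subtype.ext
      rw [← hy]
      refine hm n hn0 y ?_
      change n • x.1 = 0 at hx
      rw [← hy] at hx
      exact hx
    · change n • (m • x) = ((n * m : ℤ)) • x
      rw [mul_smul, natCast_zsmul, natCast_zsmul]

end K11.ExtFin
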