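import Groth.Agent.SGA3x.K11.ExtFin

/-!
# Commutative extensions of groups of multiplicative type

* `isMultTypeFT_of_comm`: a commutative extension of a group of multiplicative type and of finite type by another one
  is of multiplicative type, over any base.
-/

set_option autoImplicit false
set_option maxHeartbeats 1000000
universe v u
open CategoryTheory MonoidalCategory CartesianMonoidalCategory MonObj GrpObj AlgebraicGeometry Limits
open Groth.Agent Groth.Agent.Sga3B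

namespace K11.ExtMain

open K197.Isog TorsKit MTKit PowMT ExtDesc ExtTorus ExtFin

variable {S : Scheme.{u}}

/-- The restriction of the extension to the first factor of a product. -/
theorem exists_fst {E H K₁ K₂ : Over S} [GrpObj E] [GrpObj H] [GrpObj K₁] [GrpObj K₂] {i : H ⟶ E}
    {p : E ⟶ K₁ ⊗ K₂} [IsMonHom i] [IsMonHom p] (hk : Ker i p) (hp : Cov p.left) {D : Over S} [GrpObj D] {k : D ⟶ E}
    [IsMonHom k] (hkD : Ker k (p ≫ snd K₁ K₂)) :
    ∃ z : H ⟶ D, IsMonHom z ∧ Ker z (k ≫ p ≫ fst K₁ K₂) ∧ Cov (k ≫ p ≫ fst K₁ K₂).left := by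
  have hmi := hk.mono
  have hmk := hkD.mono
  obtain ⟨z, hz⟩ := hkD.lift i (by rw [← Category.assoc, hk.w, MonObj.one_comp])
  have hzm : IsMonHom z := isMonHom_of_points z fun X x y => by
    rw [← cancel_mono k, Category.assoc, hz, MonObj.mul_comp, MonObj.mul_comp, Category.assoc, Category.assoc, hz]
  have hone : ∀ {X : Over S} (a : X ⟶ D), a ≫ k ≫ p ≫ snd K₁ K₂ = 1 := fun a => by
    rw [hkD.w, MonObj.comp_one]
  refine ⟨z, hzm, ⟨?_, ?_, fun {X} a ha => ?_⟩, ?_⟩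
  · rw [← Category.assoc, hz, ← Category.assoc, hk.w, MonObj.one_comp]
  · have : Mono (z ≫ k) := by rw [hz]; infer_instance
    exact mono_of_mono z k
  · obtain ⟨b, hb⟩ := hk.lift (a ≫ k) (by
      apply CartesianMonoidalCategory.hom_ext
      · rw [Category.assoc, Category.assoc, ha, MonObj.one_comp]
      · rw [Category.assoc, Category.assoc, hone, MonObj.one_comp])
    exact ⟨b, by rw [← cancel_mono k, Category.assoc, hz, hb]⟩
  · have hl : ∀ s : PullbackCone p (lift (𝟙 K₁) (1 : K₁ ⟶ K₂)), s.fst ≫ p ≫ snd K₁ K₂ = 1 := fun s => by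
      rw [← Category.assoc, s.condition, Category.assoc, lift_snd, MonObj.comp_one]
    have hsq : IsPullback k (k ≫ p ≫ fst K₁ K₂) p (lift (𝟙 K₁) 1) := by
      refine ⟨⟨?_⟩, ⟨PullbackCone.IsLimit.mk _ (fun s => (hkD.lift s.fst (hl s)).choose) ?_ ?_ ?_⟩⟩
      · apply CartesianMonoidalCategory.hom_ext
        · simp
        · rw [Category.assoc, hkD.w, Category.assoc, lift_snd, MonObj.comp_one]
      · intro s
        exact (hkD.lift s.fst (hl s)).choose_spec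
      · intro s
        rw [← Category.assoc, (hkD.lift s.fst (hl s)).choose_spec, ← Category.assoc, s.condition, Category.assoc,
          lift_fst, Category.comp_id]
      · intro s m h1 h2
        rw [← cancel_mono k, h1, (hkD.lift s.fst (hl s)).choose_spec]
    exact MorphismProperty.of_isPullback (hsq.map (Over.forget S)) hp

/-- the swap -/
noncomputable def swap (K₁ K₂ : Over S) : K₁ ⊗ K₂ ≅ K₂ ⊗ K₁ where
  hom := lift (snd _ _) (fst _ _)
  inv := lift (snd _ _) (fst _ _)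

instance (K₁ K₂ : Over S) [GrpObj K₁] [GrpObj K₂] : IsMonHom (swap K₁ K₂).hom :=
  inferInstanceAs (IsMonHom (lift (snd K₁ K₂) (fst K₁ K₂)))

theorem isMultTypeFT_of_prod {E K₁ K₂ : Over S} [GrpObj E] [GrpObj K₁] [GrpObj K₂] {M : Type} [AddCommGroup M]
    [Module.Finite ℤ M] {i : Red.DS S M ⟶ E} {p : E ⟶ K₁ ⊗ K₂} [IsMonHom i] [IsMonHom p] (hk : Ker i p)
    (hp : Cov p.left) (hc : ∀ (X : Over S) (x y : X ⟶ E), x * y = y * x) (hK₁ : Red.IsTorus K₁)
    (hK₂ : SGA3x.IsMultTypeFT K₂) [IsFinite K₂.hom] (n : ℕ) (hn0 : 0 < n) (hn : (𝟙 K₂ : K₂ ⟶ K₂) ^ n = 1) :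
    SGA3x.IsMultTypeFT E := by
  have hK₁' := K21.MultLoc.isMultTypeFT_of_isTorus hK₁
  obtain ⟨haff, hflat, hlfp⟩ := props hk hp (isMultTypeFT_DS M) (tensor hK₁' hK₂)
  have hmi := hk.mono
  -- the first factor
  obtain ⟨_, hD₁⟩ := KerGrp.exists_grpObj (p ≫ snd K₁ K₂)
  have hk₁ : Ker (KerGrp.kerι (p ≫ snd K₁ K₂)) (p ≫ snd K₁ K₂) := ker_kerι _
  obtain ⟨z₁, hz₁, hkz₁, hcz₁⟩ := exists_fst hk hp hk₁
  -- the second factor
  let p' : E ⟶ K₂ ⊗ K₁ := p ≫ (swap K₁ K₂).hom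
  have hp's : p' ≫ snd K₂ K₁ = p ≫ fst K₁ K₂ := by
    change (p ≫ lift _ _) ≫ _ = _
    rw [Category.assoc, lift_snd]
  have hp'f : p' ≫ fst K₂ K₁ = p ≫ snd K₁ K₂ := by
    change (p ≫ lift _ _) ≫ _ = _
    rw [Category.assoc, lift_fst]
  have hk' : Ker i p' := hk.iso (Iso.refl _) (Iso.refl _) (swap K₁ K₂) (by simp) (by simp [p'])
  have hp' : Cov p'.left := by
    have h1 : Cov (swap K₁ K₂).hom.left := cov _
    rw [Over.comp_left]
    exact MorphismProperty.comp_mem _ _ _ hp h1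
  obtain ⟨_, hD₂⟩ := KerGrp.exists_grpObj (p' ≫ snd K₂ K₁)
  have hk₂ : Ker (KerGrp.kerι (p' ≫ snd K₂ K₁)) (p' ≫ snd K₂ K₁) := ker_kerι _
  obtain ⟨z₂, hz₂, hkz₂, hcz₂⟩ := exists_fst hk' hp' hk₂
  rw [hp'f] at hkz₂ hcz₂
  have hm₁ := hk₁.mono
  have hm₂ := hk₂.mono
  have hc₁ : ∀ (X : Over S) (x y : X ⟶ KerGrp.kerObj (p ≫ snd K₁ K₂)), x * y = y * x := fun X x y => by
    rw [← cancel_mono (KerGrp.kerι (p ≫ snd K₁ K₂)), MonObj.mul_comp, MonObj.mul_comp]
    exact hc _ _ _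
  have hc₂ : ∀ (X : Over S) (x y : X ⟶ KerGrp.kerObj (p' ≫ snd K₂ K₁)), x * y = y * x := fun X x y => by
    rw [← cancel_mono (KerGrp.kerι (p' ≫ snd K₂ K₁)), MonObj.mul_comp, MonObj.mul_comp]
    exact hc _ _ _
  have ht₁ := isMultTypeFT_of_torus hkz₁ hcz₁ hc₁ hK₁
  have ht₂ := isMultTypeFT_of_finite hkz₂ hcz₂ hc₂ hK₂ n hn0 hn
  let k₁ := KerGrp.kerι (p ≫ snd K₁ K₂)
  let k₂ := KerGrp.kerι (p' ≫ snd K₂ K₁)
  have hμ : Cov ((fst _ _ ≫ k₁) * (snd _ _ ≫ k₂)).left := cov_mul hk₁ k₂ (P := Cov) hcz₂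
  have hμm : IsMonHom ((fst _ _ ≫ k₁) * (snd _ _ ≫ k₂)) := isMonHom_mul hc _ _
  obtain ⟨hμ1, hμ2, hμ3⟩ := (cov_iff _).1 hμ
  exact of_cover (tensor ht₁ ht₂) ((fst _ _ ≫ k₁) * (snd _ _ ≫ k₂))

lemma isFinite_DS (F : Type) [AddCommGroup F] [Finite F] : IsFinite (Red.DS S F).hom := by
  have h1 : IsFinite (Red.diag (ULift.{u} ℤ) F).hom := by
    change IsFinite (Spec.map (CommRingCat.ofHom (algebraMap _ _)))
    rw [IsFinite.SpecMap_iff]
    simp only [CommRingCat.hom_ofHom]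
    have h2 : Module.Finite (ULift.{u} ℤ) (MonoidAlgebra (ULift.{u} ℤ) (Multiplicative F)) := inferInstance
    exact RingHom.finite_algebraMap.mpr h2
  exact inferInstanceAs (IsFinite (pullback.snd (Red.diag (ULift.{u} ℤ) F).hom _))

/-- **A commutative extension of a group of multiplicative type by a group of multiplicative type is of multiplicative
type.** -/
theorem isMultTypeFT_of_comm {E H K : Over S} [GrpObj E] [GrpObj H] [GrpObj K] {i : H ⟶ E} {p : E ⟶ K} [IsMonHom i]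
    [IsMonHom p] (hk : Ker i p) (hp : Cov p.left) (hc : ∀ (X : Over S) (x y : X ⟶ E), x * y = y * x)
    (hH : SGA3x.IsMultTypeFT H) (hK : SGA3x.IsMultTypeFT K) : SGA3x.IsMultTypeFT E := by
  refine K10.MTLoc.of_etale fun s => ?_
  obtain ⟨B, _, _, v, M, N, _, _, hv, hs, hM, hN, ⟨e⟩, ⟨f⟩⟩ := K6.HomLoc.exists_split_two hH hK s
  refine ⟨_, v, hv, hs, ?_⟩
  have hM' : Module.Finite ℤ M := Module.Finite.iff_addGroup_fg.2 hM
  have hN' : Module.Finite ℤ N := Module.Finite.iff_addGroup_fg.2 hN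
  obtain ⟨r, F, _, _, ⟨ε⟩⟩ := exists_split N
  obtain ⟨g, -⟩ := BorSpan613.exists_iso_DS (Spec (CommRingCat.of B)) ε.symm
  let eH : Red.bc v H ≅ Red.DS _ M := (Grp.forget _).mapIso e
  have i1 : IsMonHom eH.inv := inferInstanceAs (IsMonHom e.inv.hom.hom)
  let eK : Red.bc v K ≅ Red.DS (Spec (CommRingCat.of B)) ((Fin r → ℤ) × F) := (Grp.forget _).mapIso (f ≪≫ g)
  have i2 : IsMonHom eK.hom := inferInstanceAs (IsMonHom (f ≪≫ g).hom.hom.hom)
  let dp := K197.Isog.dsProd (Spec (CommRingCat.of B)) (Fin r → ℤ) F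
  have j1 := BorSpan613.isMonHom_DSmap (Spec (CommRingCat.of B)) (AddMonoidHom.inl (Fin r → ℤ) F)
  have j2 := BorSpan613.isMonHom_DSmap (Spec (CommRingCat.of B)) (AddMonoidHom.inr (Fin r → ℤ) F)
  have i3 : IsMonHom dp.hom := inferInstanceAs
    (IsMonHom (lift (Red.DSmap _ (AddMonoidHom.inl (Fin r → ℤ) F)) (Red.DSmap _ (AddMonoidHom.inr (Fin r → ℤ) F))))
  let κ := eK ≪≫ dp
  have i4 : IsMonHom κ.hom := inferInstanceAs (IsMonHom (eK.hom ≫ dp.hom))
  have hk' : Ker (eH.inv ≫ (Over.pullback v).map i) ((Over.pullback v).map p ≫ κ.hom) :=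
    (hk.bc v).iso eH (Iso.refl _) κ (by simp) (by simp)
  have hp' : Cov ((Over.pullback v).map p ≫ κ.hom).left := by
    have h1 : Cov κ.hom.left := cov _
    rw [Over.comp_left]
    exact MorphismProperty.comp_mem _ _ _ (cov_bc hp v) h1
  have hfin := isFinite_DS (S := Spec (CommRingCat.of B)) F
  refine isMultTypeFT_of_prod hk' hp' (comm_bc hc v) (isTorus_DS _ fun n hn x hx => ?_) (isMultTypeFT_DS F)
    (Nat.card F) Nat.card_pos ?_
  · funext i
    have := congrFun hx i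
    simp only [Pi.smul_apply, nsmul_eq_mul, Pi.zero_apply] at this
    rcases mul_eq_zero.1 this with h | h
    · exact absurd (by exact_mod_cast h) hn.ne'
    · exact h
  · rw [id_pow]
    exact K197.DSExact.DSmap_eq_one _ fun m => by simp

end K11.ExtMain
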