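import Groth.Agent.SGA3x.K11.PowMT
import Groth.Agent.SGA3x.K11.TorsBC
import Groth.Agent.SGA3x.K11.ExtField
import Groth.Agent.SGA3x.K11.ExtMT
import Groth.Agent.SGA3x.K11.QuotOrbit
import Groth.Agent.Sga3.H786.TCAff

/-!
# Commutative extensions of tori by diagonalizable groups

* `isTorus_of_ext`: a commutative extension of a torus by a torus is a torus;
* `isMultTypeFT_of_torus`: a commutative extension of a torus by `D(M)` is of multiplicative type.
-/

set_option autoImplicit false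
universe v u
open CategoryTheory MonoidalCategory CartesianMonoidalCategory MonObj GrpObj AlgebraicGeometry Limits
open Groth.Agent Groth.Agent.Sga3B

namespace K11.ExtTorus

open K197.Isog TorsKit MTKit PowMT

variable {S : Scheme.{u}} {E H K : Over S} [GrpObj E] [GrpObj H] [GrpObj K] {i : H ⟶ E} {p : E ⟶ K}

/-- properties of the middle term -/
theorem prop_hom {P : MorphismProperty Scheme.{u}} [P.IsStableUnderBaseChange] [P.DescendsAlong Cov]
    [P.IsStableUnderComposition] [IsMonHom p] (hk : Ker i p) (hp : Cov p.left) (hH : P H.hom) (hK : P K.hom) :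
    P E.hom := by
  rw [← Over.w p]
  exact MorphismProperty.comp_mem _ _ _ (prop_left hk hp hH) hK

lemma cov_of_isIsog {X Y : Scheme.{u}} {f : X ⟶ Y} (h : IsIsog f) : Cov f := by
  obtain ⟨h1, h2, h3⟩ := (isIsog_iff f).1 h
  exact cov f

theorem props [IsMonHom p] (hk : Ker i p) (hp : Cov p.left) (hH : SGA3x.IsMultTypeFT H)
    (hK : SGA3x.IsMultTypeFT K) : IsAffineHom E.hom ∧ Flat E.hom ∧ LocallyOfFinitePresentation E.hom := by
  have := K10.MTLoc.flat_descends.{u}
  exact ⟨prop_hom hk hp (K10.MTLoc.isAffineHom hH) (K10.MTLoc.isAffineHom hK),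
    prop_hom (P := @Flat) hk hp (K10.MTLoc.flat hH) (K10.MTLoc.flat hK),
    prop_hom (P := @LocallyOfFinitePresentation) hk hp (K10.MTLoc.locallyOfFinitePresentation hH)
      (K10.MTLoc.locallyOfFinitePresentation hK)⟩

/-- the powers on an extension of tori are isogenies -/
theorem isIsog_pow_ext [IsMonHom p] [IsMonHom i] (hk : Ker i p) (hp : Cov p.left)
    (hc : ∀ (X : Over S) (x y : X ⟶ E), x * y = y * x) (n : ℕ)
    (hH : IsIsog ((𝟙 H : H ⟶ H) ^ n).left) (hK : IsIsog ((𝟙 K : K ⟶ K) ^ n).left) :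
    IsIsog ((𝟙 E : E ⟶ E) ^ n).left := by
  have h1 := isMonHom_pow hc n
  refine five (P := IsIsog) hk hk hp (α := (𝟙 H : H ⟶ H) ^ n) (κ := (𝟙 K : K ⟶ K) ^ n) ?_ ?_ hH hK
  · rw [MonObj.comp_pow, MonObj.pow_comp, Category.comp_id, Category.id_comp]
  · rw [MonObj.comp_pow, MonObj.pow_comp, Category.comp_id, Category.id_comp]

theorem isTorus_of_ext [IsMonHom p] [IsMonHom i] (hk : Ker i p) (hp : Cov p.left)
    (hc : ∀ (X : Over S) (x y : X ⟶ E), x * y = y * x) (hH : Red.IsTorus H) (hK : Red.IsTorus K) :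
    Red.IsTorus E := by
  have hH' := K21.MultLoc.isMultTypeFT_of_isTorus hH
  have hK' := K21.MultLoc.isMultTypeFT_of_isTorus hK
  obtain ⟨h1, h2, h3⟩ := props hk hp hH' hK'
  refine Sga3.H786.TCAff.isTorus_of_isAffineHom E fun s => ?_
  let v := Red.geomPt s
  have hk1 := hk.bc v
  have hp1 := cov_bc hp v
  have hc1 := comm_bc hc v
  have hmt : SGA3x.IsMultTypeFT (Red.bc v E) := ExtField.isMultTypeFT
    (k := AlgebraicClosure (S.residueField s)) hk1 hp1 hc1 (K10.MTLoc.bc v hH') (K10.MTLoc.bc v hK')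
  refine isTorus_of_cov hmt fun n hn => cov_of_isIsog (isIsog_pow_ext hk1 hp1 hc1 n ?_ ?_)
  · exact isIsog_pow (TorusBc.isTorus_bc v hH) n hn
  · exact isIsog_pow (TorusBc.isTorus_bc v hK) n hn

end K11.ExtTorus
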