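import Groth.Agent.SGA3x.K11.ExtTorus
import Groth.Agent.SGA3x.K11.ExtDesc

/-!
# Commutative extensions of tori by diagonalizable groups, continued

* `isMultTypeFT_of_torus`: a commutative extension of a torus by `D(M)`, `M` finitely generated, is of
  multiplicative type.
-/

set_option autoImplicit false
set_option maxHeartbeats 1000000
universe v u
open CategoryTheory MonoidalCategory CartesianMonoidalCategory MonObj GrpObj AlgebraicGeometry Limits
open Groth.Agent Groth.Agent.Sga3B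

namespace K11.ExtTorus

open K197.Isog TorsKit MTKit PowMT ExtDesc

variable {S : Scheme.{u}}

/-- Exactness of `D` -/
theorem ker_DSmap {N M L : Type} [AddCommGroup N] [AddCommGroup M] [AddCommGroup L] (φ : N →+ M) (ψ : M →+ L)
    (hψ : Function.Surjective ψ) (h0 : ∀ n, ψ (φ n) = 0) (hex : ∀ m, ψ m = 0 → ∃ n, φ n = m) :
    Ker (Red.DSmap S ψ) (Red.DSmap S φ) := by
  refine ⟨?_, K7.DSProp.mono_DSmap S ψ hψ, fun {X} a ha => ?_⟩
  · rw [K7.DSProp.DSmap_comp]
    exact K197.DSExact.DSmap_eq_one _ h0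
  · obtain ⟨z, hz⟩ := K197.DSExact.exists_lift φ ψ hψ hex a ha
    exact ⟨z, hz⟩

/-- the structure of finitely generated abelian groups -/
theorem exists_split (M : Type) [AddCommGroup M] [Module.Finite ℤ M] :
    ∃ (r : ℕ) (F : Type) (_ : AddCommGroup F) (_ : Finite F), Nonempty (M ≃+ (Fin r → ℤ) × F) := by
  have : AddGroup.FG M := Module.Finite.iff_addGroup_fg.1 inferInstance
  obtain ⟨n, I, _, p, hp, e, ⟨E⟩⟩ := AddCommGroup.equiv_free_prod_directSum_zmod M
  have : ∀ i, NeZero (p i ^ e i) := fun i => ⟨pow_ne_zero _ (hp i).ne_zero⟩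
  classical
  let E' := (DirectSum.addEquivProd (fun i => ZMod (p i ^ e i)))
  refine ⟨n, ∀ i, ZMod (p i ^ e i), inferInstance, inferInstance, ⟨E.trans (AddEquiv.prodCongr
    (Finsupp.linearEquivFunOnFinite ℤ ℤ (Fin n)).toAddEquiv E')⟩⟩

/-- a multiple which kills torsion -/
theorem exists_mul (M : Type) [AddCommGroup M] [Module.Finite ℤ M] :
    ∃ m : ℕ, 0 < m ∧ ∀ (n : ℕ), 0 < n → ∀ x : M, n • (m • x) = 0 → m • x = 0 := by
  obtain ⟨r, F, _, _, ⟨e⟩⟩ := exists_split M
  refine ⟨Nat.card F, Nat.card_pos, fun n hn x hx => ?_⟩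
  have h1 : ∀ y : (Fin r → ℤ) × F, Nat.card F • y = (Nat.card F • y.1, 0) := fun y => by
    ext
    · rfl
    · simp
  apply e.injective
  have h2 := congrArg e hx
  rw [map_nsmul, map_nsmul, map_zero, h1] at h2
  rw [map_nsmul, map_zero, h1]
  have h3 := congrArg Prod.fst h2
  ext i
  · have h4 := congrFun h3 i
    simp only [Prod.smul_fst, Pi.smul_apply, nsmul_eq_mul, Prod.fst_zero, Pi.zero_apply] at h4 ⊢
    rcases mul_eq_zero.1 h4 with h | h
    · exact absurd (by exact_mod_cast h) hn.ne'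
    · exact h
  · rfl

lemma cov_DSmap {N M : Type} [AddCommGroup N] [AddCommGroup M] (φ : N →+ M) (hφ : Function.Injective φ) :
    Cov (Red.DSmap S φ).left := by
  obtain ⟨h1, h2⟩ := K7.DSProp.flat_surjective_DSmap S φ hφ
  have h3 : QuasiCompact ((Red.DSmap S φ).left ≫ (Red.DS S N).hom) := by
    rw [Over.w]
    exact inferInstanceAs (QuasiCompact (pullback.snd _ _))
  have h4 : IsSeparated (Red.DS S N).hom := inferInstanceAs (IsSeparated (pullback.snd _ _))
  have h5 : QuasiCompact (Red.DSmap S φ).left := QuasiCompact.of_comp _ (Red.DS S N).hom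
  exact cov _

lemma isMultTypeFT_DS (M : Type) [AddCommGroup M] [Module.Finite ℤ M] : SGA3x.IsMultTypeFT (Red.DS S M) :=
  K10.MTLoc.of_split (Module.Finite.iff_addGroup_fg.1 inferInstance) ⟨Iso.refl _⟩

/-- **The main construction**: `E` a commutative extension of a torus `K` by `H`, `H → T` a quotient map onto a torus
whose kernel `F` is also the kernel of `x ↦ x ^ m` on `H`. -/
theorem of_data {E K H T F : Over S} [GrpObj E] [GrpObj K] [GrpObj H] [GrpObj T] [GrpObj F]
    {i : H ⟶ E} {p : E ⟶ K} {f : H ⟶ T} {l : F ⟶ H} [IsMonHom i] [IsMonHom p] [IsMonHom f] [IsMonHom l]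
    (hk : Ker i p) (hp : Cov p.left)
    (hc : ∀ (X : Over S) (x y : X ⟶ E), x * y = y * x) (hK : Red.IsTorus K) (hT : Red.IsTorus T)
    (hH : SGA3x.IsMultTypeFT H) (hF : SGA3x.IsMultTypeFT F) (m : ℕ) (hm : 0 < m)
    (hlf : Ker l f) (hlm : Ker l ((𝟙 H : H ⟶ H) ^ m)) (hf : Cov f.left) :
    SGA3x.IsMultTypeFT E := by
  have hK' := K21.MultLoc.isMultTypeFT_of_isTorus hK
  have hcK : ∀ (X : Over S) (x y : X ⟶ K), x * y = y * x := fun X x y => ExtMT.mul_comm' hK' x y
  obtain ⟨haff, hflat, hlfp⟩ := props hk hp hH hK'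
  have hKaff := K10.MTLoc.isAffineHom hK'
  have hKlfp := K10.MTLoc.locallyOfFinitePresentation hK'
  have i0 := isMonHom_pow hc m
  have hmi := hk.mono
  have hml := hlf.mono
  let k := l ≫ i
  let u : E ⟶ E ⊗ K := lift ((𝟙 E : E ⟶ E) ^ m) p
  have hu1 : ∀ {X : Over S} (a : X ⟶ E), (a ≫ u) ≫ fst E K = a ^ m := fun a => by
    rw [Category.assoc, lift_fst, MonObj.comp_pow, Category.comp_id]
  have hu2 : ∀ {X : Over S} (a : X ⟶ E), (a ≫ u) ≫ snd E K = a ≫ p := fun a => by
    rw [Category.assoc, lift_snd]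
  have hku : Ker k u := by
    refine ⟨?_, mono_comp _ _, fun {X} a ha => ?_⟩
    · apply CartesianMonoidalCategory.hom_ext
      · rw [hu1, MonObj.one_comp, ← MonObj.pow_comp]
        have h2 : l ^ m = 1 := by
          have := hlm.w
          rwa [MonObj.comp_pow, Category.comp_id] at this
        rw [h2, MonObj.one_comp]
      · rw [hu2, MonObj.one_comp, Category.assoc, hk.w, MonObj.comp_one]
    · have h2 : a ^ m = 1 := by rw [← hu1, ha, MonObj.one_comp]
      have h3 : a ≫ p = 1 := by rw [← hu2, ha, MonObj.one_comp]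
      obtain ⟨b, rfl⟩ := hk.lift a h3
      have h4 : b ≫ ((𝟙 H : H ⟶ H) ^ m) = 1 := by
        rw [MonObj.comp_pow, Category.comp_id, ← cancel_mono i, MonObj.pow_comp, h2, MonObj.one_comp]
      obtain ⟨z, hz⟩ := hlm.lift b h4
      exact ⟨z, by rw [← Category.assoc, hz]⟩
  have hFfl : Flat F.hom := K10.MTLoc.flat hF
  have hEK1 : LocallyOfFiniteType (E ⊗ K).hom := by
    rw [← Over.w (fst E K)]
    have : LocallyOfFiniteType (fst E K).left := prop_fst (P := @LocallyOfFiniteType) inferInstance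
    infer_instance
  have hEK2 : IsSeparated (E ⊗ K).hom := by
    rw [← Over.w (fst E K)]
    have : IsSeparated (fst E K).left := prop_fst (P := @IsSeparated) inferInstance
    infer_instance
  obtain ⟨Q, _, q, _, n, _, hqn, hq1, hq2, hq3, hn, hQ, -⟩ :=
    QuotOrbit.exists_quotient_ker (Or.inl hEK1) u F k ((Ker.iff_isPullback k u).1 hku)
  have hmn : Mono n.left := inferInstance
  have hqc : QuasiCompact q.left := by
    have h1 : QuasiCompact (u.left ≫ (E ⊗ K).hom) := by rw [Over.w]; infer_instance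
    have h2 : QuasiCompact u.left := QuasiCompact.of_comp _ (E ⊗ K).hom
    have h3 : QuasiCompact (q.left ≫ n.left) := by rw [← Over.comp_left, hqn]; exact h2
    exact QuasiCompact.of_comp _ n.left
  have hqcov : Cov q.left := cov _
  have hkq : Ker k q := by
    refine ⟨?_, hku.mono, fun {X} a ha => hku.lift a ?_⟩
    · rw [← cancel_mono n, Category.assoc, hqn, hku.w, MonObj.one_comp]
    · rw [← hqn, ← Category.assoc, ha, MonObj.one_comp]
  let r : Q ⟶ K := n ≫ snd E K
  have hqr : q ≫ r = p := by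
    change q ≫ n ≫ snd E K = p
    rw [← Category.assoc, hqn]
    exact lift_snd _ _
  have hrcov : Cov r.left := cov_of_comp q.left r.left hqcov (by rw [← Over.comp_left, hqr]; exact hp)
  obtain ⟨c, hcm, hfc⟩ := exists_desc_hom hlf hf (i ≫ q) (by rw [← Category.assoc]; exact hkq.w)
  have hkc : Ker c r := ker_desc hf hqcov hlf.w hkq (by rw [hqr]; exact hk) hfc
  have hcQ : ∀ (X : Over S) (x y : X ⟶ Q), x * y = y * x := fun X x y => by
    rw [← cancel_mono n, MonObj.mul_comp, MonObj.mul_comp]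
    apply CartesianMonoidalCategory.hom_ext
    · rw [MonObj.mul_comp, MonObj.mul_comp]
      exact hc _ _ _
    · rw [MonObj.mul_comp, MonObj.mul_comp]
      exact hcK _ _ _
  have hQt : Red.IsTorus Q := isTorus_of_ext hkc hrcov hcQ hT hK
  let j : Q ⟶ E := n ≫ fst E K
  have hqj : q ≫ j = (𝟙 E : E ⟶ E) ^ m := by
    change q ≫ n ≫ fst E K = _
    rw [← Category.assoc, hqn]
    exact lift_fst _ _
  have hjq : j ≫ q = (𝟙 Q : Q ⟶ Q) ^ m := by
    have := epi_of_cov hqcov
    rw [← cancel_epi q, ← Category.assoc, hqj, MonObj.pow_comp, MonObj.comp_pow, Category.id_comp, Category.comp_id]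
  have hμ : IsIsog ((fst F Q ≫ k) * (snd F Q ≫ j)).left :=
    cov_mul hkq j (P := IsIsog) (by rw [hjq]; exact isIsog_pow hQt m hm)
  have hμm : IsMonHom ((fst F Q ≫ k) * (snd F Q ≫ j)) := isMonHom_mul hc _ _
  obtain ⟨hμ1, hμ2, hμ3⟩ := (isIsog_iff _).1 hμ
  exact of_cover (tensor hF (K21.MultLoc.isMultTypeFT_of_isTorus hQt)) ((fst F Q ≫ k) * (snd F Q ≫ j))

theorem isTorus_DS (M : Type) [AddCommGroup M] [Module.Finite ℤ M]
    (hfree : ∀ (n : ℕ), 0 < n → ∀ m : M, n • m = 0 → m = 0) : Red.IsTorus (Red.DS S M) := by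
  obtain ⟨r, ⟨e⟩⟩ := exists_iso_free S M hfree
  exact BorSpan613.isTorus_of_isSplitTorusWith ⟨e⟩

theorem isMultTypeFT_of_torus {E K : Over S} [GrpObj E] [GrpObj K] {M : Type} [AddCommGroup M] [Module.Finite ℤ M]
    {i : Red.DS S M ⟶ E} {p : E ⟶ K} [IsMonHom i] [IsMonHom p] (hk : Ker i p) (hp : Cov p.left)
    (hc : ∀ (X : Over S) (x y : X ⟶ E), x * y = y * x) (hK : Red.IsTorus K) : SGA3x.IsMultTypeFT E := by
  obtain ⟨m, hm0, hm⟩ := exists_mul M
  have j1 := BorSpan613.isMonHom_DSmap S ((nsmulAddMonoidHom (α := M) m).range.subtype)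
  have j2 := BorSpan613.isMonHom_DSmap S (QuotientAddGroup.mk' (nsmulAddMonoidHom (α := M) m).range)
  have hNfin : Module.Finite ℤ (nsmulAddMonoidHom (α := M) m).range :=
    Module.Finite.of_injective ((nsmulAddMonoidHom (α := M) m).range.subtype).toIntLinearMap Subtype.val_injective
  have hLfin : Module.Finite ℤ (M ⧸ (nsmulAddMonoidHom (α := M) m).range) :=
    Module.Finite.of_surjective (QuotientAddGroup.mk' (nsmulAddMonoidHom (α := M) m).range).toIntLinearMap
      (QuotientAddGroup.mk'_surjective _)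
  have hex : ∀ x : M, QuotientAddGroup.mk' (nsmulAddMonoidHom (α := M) m).range x = 0 → ∃ y, m • y = x := by
    intro x hx
    obtain ⟨y, hy⟩ := (QuotientAddGroup.eq_zero_iff _).1 hx
    exact ⟨y, hy⟩
  have hm1 : ∀ x : M, QuotientAddGroup.mk' (nsmulAddMonoidHom (α := M) m).range (m • x) = 0 := fun x =>
    (QuotientAddGroup.eq_zero_iff _).2 ⟨x, rfl⟩
  refine of_data (H := Red.DS S M) (T := Red.DS S (nsmulAddMonoidHom (α := M) m).range)
    (F := Red.DS S (M ⧸ (nsmulAddMonoidHom (α := M) m).range)) hk hp hc hK ?_ (isMultTypeFT_DS _)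
    (isMultTypeFT_DS _) m hm0 (f := Red.DSmap S ((nsmulAddMonoidHom (α := M) m).range.subtype))
    (l := Red.DSmap S (QuotientAddGroup.mk' (nsmulAddMonoidHom (α := M) m).range)) ?_ ?_
    (cov_DSmap _ Subtype.val_injective)
  · refine isTorus_DS _ fun n hn x hx => ?_
    obtain ⟨y, hy⟩ := x.2
    have h1 : n • (m • y) = 0 := by
      have := congrArg Subtype.val hx
      change n • x.1 = 0 at this
      rw [← hy] at this
      exact this
    apply Subtype.ext
    rw [← hy]
    exact hm n hn y h1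
  · refine ker_DSmap _ _ (QuotientAddGroup.mk'_surjective _) (fun x => ?_) (fun x hx => ?_)
    · exact (QuotientAddGroup.eq_zero_iff _).2 x.2
    · exact ⟨⟨x, (QuotientAddGroup.eq_zero_iff _).1 hx⟩, rfl⟩
  · rw [id_pow]
    exact ker_DSmap _ _ (QuotientAddGroup.mk'_surjective _) hm1 hex

end K11.ExtTorus
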