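import Groth.Agent.GrpQ.H773.Main
import Mathlib.AlgebraicGeometry.Noetherian
import Mathlib.RingTheory.FinitePresentation

/-!
# The factorisation theorem over a locally Noetherian base, the target being arbitrary

`f : X ⟶ Y` a morphism of `S`-schemes, `S` locally Noetherian, `X` locally of finite type over `S` (no
condition on `Y`). If `X ×_Y X ⟶ X` is flat, then `f` is an fppf cover followed by a monomorphism.
-/

set_option autoImplicit false

universe u

open CategoryTheory Limits AlgebraicGeometry TensorProduct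

namespace K11.FactNoeth

open Groth.Agent.GrpQ.H773.HasFact Groth.Agent.Sga3C.QuotRel

variable {X Y : Scheme.{u}}

/-- Passing from a quasi-section to the whole scheme. -/
theorem of_slice (f : X ⟶ Y) [LocallyOfFinitePresentation (pullback.fst f f)] [Flat (pullback.fst f f)]
    {T : Scheme.{u}} (g : T ⟶ X) [Flat (pullback.snd (g ≫ f) f)]
    [LocallyOfFinitePresentation (pullback.snd (g ≫ f) f)]
    [Surjective (pullback.snd (g ≫ f) f)] (h : HasFact (g ≫ f)) : HasFact f := by
  obtain ⟨Z, p, i, hp1, hp2, hp3, hi, hpi⟩ := h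
  let π : pullback (g ≫ f) f ⟶ X := pullback.snd _ _
  have : Epi π := Flat.epi_of_flat_of_surjective π
  obtain ⟨q, hq⟩ := exists_desc π (pullback.fst (g ≫ f) f ≫ p) fun {S} a b hab => by
    rw [← cancel_mono i]
    simp only [Category.assoc, hpi]
    rw [pullback.condition]
    exact by
      change a ≫ π ≫ f = b ≫ π ≫ f
      rw [reassoc_of% hab]
  have hqi : q ≫ i = f := by
    rw [← cancel_epi π, reassoc_of% hq, hpi]
    exact pullback.condition
  have hsq : IsPullback (pullback.fst (g ≫ f) f) π p q :=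
    ⟨⟨hq.symm⟩, ⟨PullbackCone.IsLimit.mk _
      (fun c => pullback.lift c.fst c.snd (by
        rw [← hpi, ← hqi, c.condition_assoc]))
      (fun c => pullback.lift_fst _ _ _) (fun c => pullback.lift_snd _ _ _)
      (fun c m h1 h2 => pullback.hom_ext (h1.trans (pullback.lift_fst _ _ _).symm)
        (h2.trans (pullback.lift_snd _ _ _).symm))⟩⟩
  -- the first projection `T ×_Y X ⟶ T` is a base change of `X ×_Y X ⟶ X`
  have hb : IsPullback (pullback.fst (g ≫ f) f) (pullback.lift (pullback.fst (g ≫ f) f ≫ g)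
      (pullback.snd (g ≫ f) f) (by rw [Category.assoc, pullback.condition])) g
      (pullback.fst f f) := by
    refine ⟨⟨(pullback.lift_fst _ _ _).symm⟩, ⟨PullbackCone.IsLimit.mk _
      (fun c => pullback.lift c.fst (c.snd ≫ pullback.snd f f) (by
        rw [Category.assoc, ← pullback.condition, reassoc_of% c.condition]))
      (fun c => pullback.lift_fst _ _ _) (fun c => ?_)
      (fun c m h1 h2 => ?_)⟩⟩
    · apply pullback.hom_ext
      · rw [Category.assoc, pullback.lift_fst, pullback.lift_fst_assoc, c.condition]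
      · rw [Category.assoc, pullback.lift_snd, pullback.lift_snd]
    · apply pullback.hom_ext
      · exact h1.trans (pullback.lift_fst _ _ _).symm
      · have := congrArg (· ≫ pullback.snd f f) h2
        simp only [Category.assoc] at this
        rw [pullback.lift_snd] at this
        exact this.trans (pullback.lift_snd _ _ _).symm
  have h1 : Flat (pullback.fst (g ≫ f) f) :=
    MorphismProperty.of_isPullback (P := @Flat) hb.flip inferInstance
  have h2 : LocallyOfFinitePresentation (pullback.fst (g ≫ f) f) :=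
    MorphismProperty.of_isPullback (P := @LocallyOfFinitePresentation) hb.flip inferInstance
  have h3 : Surjective (pullback.fst (g ≫ f) f) := by
    have : pullback.lift (𝟙 T) g (by simp) ≫ pullback.fst (g ≫ f) f = 𝟙 T :=
      pullback.lift_fst _ _ _
    have h : Surjective (pullback.lift (𝟙 T) g (by simp) ≫ pullback.fst (g ≫ f) f) := by
      rw [this]; infer_instance
    exact Surjective.of_comp (pullback.lift (𝟙 T) g _) (pullback.fst (g ≫ f) f)
  have hq2 : Flat q := by
    have : Flat (π ≫ q) := by rw [hq]; infer_instance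
    exact Groth.Agent.S1128.result π q
  have hq3 : LocallyOfFinitePresentation q :=
    MorphismProperty.of_isPullback_of_descendsAlong (P := @LocallyOfFinitePresentation)
      (Q := @Surjective ⊓ @Flat ⊓ @LocallyOfFinitePresentation) hsq
      ⟨⟨hp1, hp2⟩, hp3⟩ h2
  have hq1 : Surjective q := by
    have : Surjective (π ≫ q) := by rw [hq]; infer_instance
    exact Surjective.of_comp π q
  exact ⟨Z, q, i, hq1, hq2, hq3, hi, hqi⟩

theorem lfp_fst_of_isOpenImmersion (f : X ⟶ Y) [LocallyOfFinitePresentation (pullback.fst f f)]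
    {U V : Scheme.{u}} (a : U ⟶ X) (b : V ⟶ X) [IsOpenImmersion a] [IsOpenImmersion b] :
    LocallyOfFinitePresentation (pullback.fst (a ≫ f) (b ≫ f)) := by
  let m : pullback (a ≫ f) (b ≫ f) ⟶ pullback f f :=
    pullback.map _ _ _ _ a b (𝟙 Y) (by simp) (by simp)
  have h1 : LocallyOfFinitePresentation (pullback.fst (a ≫ f) (b ≫ f) ≫ a) := by
    have : pullback.fst (a ≫ f) (b ≫ f) ≫ a = m ≫ pullback.fst f f :=
      (pullback.lift_fst _ _ _).symm
    rw [this]
    infer_instance
  exact MorphismProperty.of_postcomp (W := @LocallyOfFinitePresentation) (W' := @IsOpenImmersion) _ a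
    inferInstance h1

theorem lfp_snd (f : X ⟶ Y) [LocallyOfFinitePresentation (pullback.fst f f)] :
    LocallyOfFinitePresentation (pullback.snd f f) := by
  rw [← pullbackSymmetry_hom_comp_fst]
  infer_instance

theorem lfp_snd_of_isOpenImmersion (f : X ⟶ Y) [LocallyOfFinitePresentation (pullback.fst f f)]
    {U V : Scheme.{u}} (a : U ⟶ X) (b : V ⟶ X) [IsOpenImmersion a] [IsOpenImmersion b] :
    LocallyOfFinitePresentation (pullback.snd (a ≫ f) (b ≫ f)) := by
  have := lfp_fst_of_isOpenImmersion f b a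
  rw [← pullbackSymmetry_hom_comp_fst]
  infer_instance

/-- The saturation of an open subset. -/
noncomputable def sat (f : X ⟶ Y) [LocallyOfFinitePresentation (pullback.fst f f)]
    [Flat (pullback.fst f f)] (U : X.Opens) : X.Opens :=
  ⟨pullback.snd f f '' (pullback.fst f f ⁻¹' (U : Set X)),
    have := flat_snd f
    have := lfp_snd f
    (pullback.snd f f).isOpenMap _ (U.2.preimage (pullback.fst f f).continuous)⟩

theorem mem_sat (f : X ⟶ Y) [LocallyOfFinitePresentation (pullback.fst f f)] [Flat (pullback.fst f f)]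
    (U : X.Opens) (x : X) : x ∈ sat f U ↔ ∃ u ∈ U, f u = f x := by
  constructor
  · rintro ⟨r, hr, rfl⟩
    refine ⟨pullback.fst f f r, hr, ?_⟩
    rw [← Scheme.Hom.comp_apply, ← Scheme.Hom.comp_apply, pullback.condition]
  · rintro ⟨u, hu, h⟩
    obtain ⟨r, h1, h2⟩ := Scheme.Pullback.exists_preimage_pullback u x h
    refine ⟨r, ?_, h2⟩
    change pullback.fst f f r ∈ U
    rwa [h1]

theorem le_sat (f : X ⟶ Y) [LocallyOfFinitePresentation (pullback.fst f f)] [Flat (pullback.fst f f)]
    (U : X.Opens) : U ≤ sat f U := fun x hx => (mem_sat f U x).2 ⟨x, hx, rfl⟩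

theorem sat_sat (f : X ⟶ Y) [LocallyOfFinitePresentation (pullback.fst f f)] [Flat (pullback.fst f f)]
    (U : X.Opens) : Sat (pullback.fst f f) (pullback.snd f f) (sat f U) := by
  intro r
  rw [mem_sat, mem_sat, ← Scheme.Hom.comp_apply, ← Scheme.Hom.comp_apply, pullback.condition]

/-- A factorisation over an open subset gives one over its saturation. -/
theorem hasFact_sat (f : X ⟶ Y) [LocallyOfFinitePresentation (pullback.fst f f)]
    [Flat (pullback.fst f f)] (U : X.Opens) (h : HasFact (U.ι ≫ f)) : HasFact ((sat f U).ι ≫ f) := by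
  have h0 : Flat (pullback.fst ((sat f U).ι ≫ f) ((sat f U).ι ≫ f)) :=
    flat_fst_of_isOpenImmersion f _ _
  have h0' : LocallyOfFinitePresentation (pullback.fst ((sat f U).ι ≫ f) ((sat f U).ι ≫ f)) :=
    lfp_fst_of_isOpenImmersion f _ _
  have hg : X.homOfLE (le_sat f U) ≫ (sat f U).ι ≫ f = U.ι ≫ f := by simp
  have h1 : Flat (pullback.snd (X.homOfLE (le_sat f U) ≫ (sat f U).ι ≫ f) ((sat f U).ι ≫ f)) := by
    rw [hg]
    exact flat_snd_of_isOpenImmersion f _ _
  have h2 : LocallyOfFinitePresentation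
      (pullback.snd (X.homOfLE (le_sat f U) ≫ (sat f U).ι ≫ f) ((sat f U).ι ≫ f)) := by
    rw [hg]
    exact lfp_snd_of_isOpenImmersion f _ _
  have h3 : Surjective
      (pullback.snd (X.homOfLE (le_sat f U) ≫ (sat f U).ι ≫ f) ((sat f U).ι ≫ f)) := by
    refine ⟨fun x => ?_⟩
    obtain ⟨u, hu, hux⟩ := (mem_sat f U x.1).1 x.2
    obtain ⟨r, -, h2⟩ := Scheme.Pullback.exists_preimage_pullback
      (f := X.homOfLE (le_sat f U) ≫ (sat f U).ι ≫ f) (g := (sat f U).ι ≫ f) ⟨u, hu⟩ x
      (by
        rw [hg]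
        exact hux)
    exact ⟨r, h2⟩
  exact of_slice ((sat f U).ι ≫ f) (X.homOfLE (le_sat f U)) (by rwa [hg])

/-- `HasFact` is Zariski local on the source. -/
theorem of_cover (f : X ⟶ Y) [LocallyOfFinitePresentation (pullback.fst f f)]
    [Flat (pullback.fst f f)] (H : ∀ x : X, ∃ U : X.Opens, x ∈ U ∧ HasFact (U.ι ≫ f)) : HasFact f := by
  obtain ⟨Q, q, hq⟩ := Groth.Agent.Sga3C.QuotGlue.exists_isQuot (isERel f) fun x => by
    obtain ⟨U, hx, hU⟩ := H x
    exact ⟨sat f U, le_sat f U hx, sat_sat f U, hasQuot_of_hasFact f _ (hasFact_sat f U hU)⟩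
  exact hasFact_of_isQuot f q hq

/-- Changing the target without changing the kernel pair. -/
theorem of_comp {Y' : Scheme.{u}} (f : X ⟶ Y) (π : Y ⟶ Y')
    (hker : ∀ {T : Scheme.{u}} (a b : T ⟶ X), a ≫ f ≫ π = b ≫ f ≫ π → a ≫ f = b ≫ f)
    (h : HasFact (f ≫ π)) : HasFact f := by
  obtain ⟨Z, q, i, h1, h2, h3, h4, h5⟩ := h
  obtain ⟨j, hj⟩ := exists_desc q f fun {T} a b hab => hker a b (by
    rw [← h5, reassoc_of% hab])
  have : Epi q := Flat.epi_of_flat_of_surjective q
  have hji : j ≫ π = i := by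
    rw [← cancel_epi q, reassoc_of% hj, h5]
  have : Mono (j ≫ π) := by rw [hji]; exact h4
  exact ⟨Z, q, j, h1, h2, h3, mono_of_mono j π, hj⟩

theorem isPullback_of_ker {Y' : Scheme.{u}} (f : X ⟶ Y) (π : Y ⟶ Y')
    (hker : ∀ {T : Scheme.{u}} (a b : T ⟶ X), a ≫ f ≫ π = b ≫ f ≫ π → a ≫ f = b ≫ f) :
    IsPullback (pullback.fst f f) (pullback.snd f f) (f ≫ π) (f ≫ π) :=
  ⟨⟨by rw [pullback.condition_assoc]⟩, ⟨PullbackCone.IsLimit.mk _
      (fun c => pullback.lift c.fst c.snd (hker _ _ c.condition))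
      (fun c => pullback.lift_fst _ _ _) (fun c => pullback.lift_snd _ _ _)
      (fun c m h1 h2 => pullback.hom_ext (h1.trans (pullback.lift_fst _ _ _).symm)
        (h2.trans (pullback.lift_snd _ _ _).symm))⟩⟩

/-- The coincidence of two ring maps out of `B` on the image of `A` is a finite condition. -/
theorem exists_finset (R A B : Type u) [CommRing R] [CommRing A] [CommRing B] [Algebra R A]
    [Algebra A B] [Algebra R B] [IsScalarTower R A B] [IsNoetherianRing R] [Algebra.FiniteType R B] :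
    ∃ T : Finset A, ∀ (C : Type u) [CommRing C] (φ ψ : B →+* C),
      (∀ r : R, φ (algebraMap R B r) = ψ (algebraMap R B r)) →
      (∀ t ∈ T, φ (algebraMap A B t) = ψ (algebraMap A B t)) →
      ∀ a : A, φ (algebraMap A B a) = ψ (algebraMap A B a) := by
  have : Algebra.FiniteType R (B ⊗[R] B) := Algebra.FiniteType.trans (S := B) inferInstance inferInstance
  have hN : IsNoetherianRing (B ⊗[R] B) := Algebra.FiniteType.isNoetherianRing R _
  let d : A → B ⊗[R] B := fun a => algebraMap A B a ⊗ₜ 1 - 1 ⊗ₜ algebraMap A B a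
  obtain ⟨s, hs⟩ : (Ideal.span (Set.range d)).FG := IsNoetherian.noetherian _
  obtain ⟨t', ht', hspan⟩ := (Submodule.fg_span_iff_fg_span_finset_subset (R := B ⊗[R] B) (Set.range d)).1
    ⟨s, hs⟩
  classical
  obtain ⟨T, hT⟩ : ∃ T : Finset A, t' ⊆ T.image d := by
    choose! c hc using fun x (hx : x ∈ (t' : Set (B ⊗[R] B))) => ht' hx
    exact ⟨t'.image c, fun x hx => Finset.mem_image.2 ⟨c x, Finset.mem_image_of_mem c hx, hc x hx⟩⟩
  refine ⟨T, fun C _ φ ψ hR hT' a => ?_⟩
  let _ : Algebra R C := (φ.comp (algebraMap R B)).toAlgebra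
  let φ' : B →ₐ[R] C := ⟨φ, fun r => rfl⟩
  let ψ' : B →ₐ[R] C := ⟨ψ, fun r => (hR r).symm⟩
  let m : B ⊗[R] B →ₐ[R] C := Algebra.TensorProduct.lift φ' ψ' (fun _ _ => Commute.all _ _)
  have hm : ∀ a : A, m (d a) = φ (algebraMap A B a) - ψ (algebraMap A B a) := by
    intro a
    simp [d, m, φ', ψ']
  have hle : Ideal.span (Set.range d) ≤ RingHom.ker m.toRingHom := by
    have h0 : (Ideal.span (Set.range d)) = Ideal.span (t' : Set (B ⊗[R] B)) := hspan
    rw [h0, Ideal.span_le]
    intro x hx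
    obtain ⟨y, hy, rfl⟩ := Finset.mem_image.1 (hT hx)
    change m (d y) = 0
    rw [hm, hT' y hy, sub_self]
  have := hle (Ideal.subset_span ⟨a, rfl⟩)
  have h1 : m (d a) = 0 := this
  rwa [hm, sub_eq_zero] at h1

/-- The affine case. -/
theorem hasFact_affine (R A B : Type u) [CommRing R] [CommRing A] [CommRing B] [Algebra R A]
    [Algebra A B] [Algebra R B] [IsScalarTower R A B] [IsNoetherianRing R] [Algebra.FiniteType R B]
    [Flat (pullback.fst (Spec.map (CommRingCat.ofHom (algebraMap A B)))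
      (Spec.map (CommRingCat.ofHom (algebraMap A B))))] :
    HasFact (Spec.map (CommRingCat.ofHom (algebraMap A B))) := by
  obtain ⟨T, hT⟩ := exists_finset R A B
  let A₀ := Algebra.adjoin R (T : Set A)
  have hA₀ : Algebra.FiniteType R A₀ := (Subalgebra.fg_iff_finiteType _).1 ⟨T, rfl⟩
  have hN : IsNoetherianRing A₀ := Algebra.FiniteType.isNoetherianRing R _
  have hB : Algebra.FiniteType A₀ B := Algebra.FiniteType.of_restrictScalars_finiteType R A₀ B
  have hBp : Algebra.FinitePresentation A₀ B := (Algebra.FinitePresentation.of_finiteType).1 hB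
  let f := Spec.map (CommRingCat.ofHom (algebraMap A B))
  let π := Spec.map (CommRingCat.ofHom (algebraMap A₀ A))
  have hfπ : f ≫ π = Spec.map (CommRingCat.ofHom (algebraMap A₀ B)) := by
    rw [← Spec.map_comp]; rfl
  have hker : ∀ {T : Scheme.{u}} (a b : T ⟶ Spec (CommRingCat.of B)),
      a ≫ f ≫ π = b ≫ f ≫ π → a ≫ f = b ≫ f := by
    intro W a b hab
    let ev : (W ⟶ Spec (CommRingCat.of B)) → (B →+* Γ(W, ⊤)) := fun a =>
      ((Scheme.ΓSpecIso (CommRingCat.of B)).inv ≫ a.appTop).hom
    have key : ∀ {A' : Type u} [CommRing A'] (α : A' →+* B) (c : W ⟶ Spec (CommRingCat.of B)) (x : A'),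
        ((Scheme.ΓSpecIso (CommRingCat.of A')).inv ≫
          (c ≫ Spec.map (CommRingCat.ofHom α)).appTop).hom x = ev c (α x) := by
      intro A' _ α c x
      rw [Scheme.Hom.comp_appTop, ← Scheme.ΓSpecIso_inv_naturality_assoc]
      rfl
    apply ext_to_Spec
    ext x
    refine (key (algebraMap A B) a x).trans (Eq.trans ?_ (key (algebraMap A B) b x).symm)
    refine hT _ (ev a) (ev b) (fun r => ?_) (fun t ht => ?_) x
    · have h3 := key (algebraMap A₀ B) a (algebraMap R A₀ r)
      have h4 := key (algebraMap A₀ B) b (algebraMap R A₀ r)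
      rw [← IsScalarTower.algebraMap_apply] at h3 h4
      rw [← h3, ← h4, ← hfπ, hab]
    · have h3 := key (algebraMap A₀ B) a ⟨t, Algebra.subset_adjoin ht⟩
      have h4 := key (algebraMap A₀ B) b ⟨t, Algebra.subset_adjoin ht⟩
      have h5 : algebraMap A₀ B ⟨t, Algebra.subset_adjoin ht⟩ = algebraMap A B t := rfl
      rw [h5] at h3 h4
      rw [← h3, ← h4, ← hfπ, hab]
  have h1 : LocallyOfFinitePresentation (f ≫ π) := by
    rw [hfπ, LocallyOfFinitePresentation.SpecMap_iff]
    exact RingHom.finitePresentation_algebraMap.2 hBp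
  have h2 : Flat (pullback.fst (f ≫ π) (f ≫ π)) := by
    have h3 := isPullback_of_ker f π hker
    rw [← h3.isoPullback_inv_fst]
    infer_instance
  exact of_comp f π hker (Groth.Agent.GrpQ.H773.Main.hasFact (f ≫ π))

/-- The kernel pair is locally of finite presentation over `X`. -/
theorem lfp_fst {S : Scheme.{u}} (p : Y ⟶ S) (f : X ⟶ Y) [IsLocallyNoetherian S]
    [LocallyOfFiniteType (f ≫ p)] : LocallyOfFinitePresentation (pullback.fst f f) := by
  have hX : IsLocallyNoetherian X := LocallyOfFiniteType.isLocallyNoetherian (f ≫ p)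
  have h1 : pullback.mapDesc f f p ≫ pullback.fst (f ≫ p) (f ≫ p) = pullback.fst f f :=
    (pullback.lift_fst _ _ _).trans (Category.comp_id _)
  have h2 : LocallyOfFiniteType (pullback.fst f f) := by
    rw [← h1]
    infer_instance
  exact LocallyOfFinitePresentation.iff_locallyOfFiniteType.2 h2

/-- **The factorisation theorem** over a locally Noetherian base, for an arbitrary target. -/
theorem hasFact {S : Scheme.{u}} (p : Y ⟶ S) (f : X ⟶ Y) [IsLocallyNoetherian S]
    [LocallyOfFiniteType (f ≫ p)] [Flat (pullback.fst f f)] : HasFact f := by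
  have hlfp := lfp_fst p f
  refine of_cover f fun x => ?_
  obtain ⟨W, hW, hxW, -⟩ := exists_isAffineOpen_mem_and_subset (x := p (f x)) (U := ⊤) trivial
  obtain ⟨V, hV, hxV, hVW⟩ := exists_isAffineOpen_mem_and_subset (x := f x) (U := p ⁻¹ᵁ W) hxW
  obtain ⟨U, hU, hxU, hUV⟩ := exists_isAffineOpen_mem_and_subset (x := x) (U := f ⁻¹ᵁ V) hxV
  have hUV' : U ≤ f ⁻¹ᵁ V := hUV
  have hVW' : V ≤ p ⁻¹ᵁ W := hVW
  have hUW : U ≤ (f ≫ p) ⁻¹ᵁ W := fun y hy => hVW' (hUV' hy)
  have hN : IsNoetherianRing Γ(S, W) := IsLocallyNoetherian.component_noetherian ⟨W, hW⟩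
  let _ : Algebra Γ(S, W) Γ(Y, V) := (p.appLE W V hVW').hom.toAlgebra
  let _ : Algebra Γ(Y, V) Γ(X, U) := (f.appLE V U hUV').hom.toAlgebra
  let _ : Algebra Γ(S, W) Γ(X, U) := ((f ≫ p).appLE W U hUW).hom.toAlgebra
  have hT : IsScalarTower Γ(S, W) Γ(Y, V) Γ(X, U) := by
    refine IsScalarTower.of_algebraMap_eq' ?_
    change ((f ≫ p).appLE W U hUW).hom = (f.appLE V U hUV').hom.comp (p.appLE W V hVW').hom
    rw [← CommRingCat.hom_comp, Scheme.Hom.appLE_comp_appLE]
  have hft : Algebra.FiniteType Γ(S, W) Γ(X, U) := (f ≫ p).finiteType_appLE hW hU hUW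
  have hg : Spec.map (f.appLE V U hUV') ≫ hV.fromSpec = hU.fromSpec ≫ f :=
    hV.SpecMap_appLE_fromSpec f hU hUV'
  have hfl : Flat (pullback.fst (Spec.map (f.appLE V U hUV')) (Spec.map (f.appLE V U hUV'))) := by
    rw [← Groth.Agent.GrpQ.H773.Assemble.flat_fst_comp_mono_iff _ _ hV.fromSpec, hg]
    exact flat_fst_of_isOpenImmersion f _ _
  have hfact : HasFact (Spec.map (f.appLE V U hUV')) :=
    hasFact_affine Γ(S, W) Γ(Y, V) Γ(X, U)
  have hfact' : HasFact (hU.fromSpec ≫ f) := by
    rw [← hg]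
    exact hfact.comp_mono hV.fromSpec
  refine ⟨U, hxU, ?_⟩
  refine HasFact.of_iso hU.isoSpec.symm ?_
  have h5 : hU.isoSpec.symm.hom ≫ U.ι = hU.fromSpec := rfl
  rwa [← Category.assoc, h5]

end K11.FactNoeth
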