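import Groth.Agent.SGA3x.K11.MTKit

/-!
# The power maps of groups of multiplicative type

* `isIsog_pow`: on a torus the map `x ↦ x ^ n` is an isogeny for `n > 0`;
* `isTorus_of_cov`: a group of multiplicative type on which all `x ↦ x ^ n`, `n > 0`, are faithfully flat is a torus.
-/

set_option autoImplicit false
set_option maxHeartbeats 400000
universe v u
open CategoryTheory MonoidalCategory CartesianMonoidalCategory MonObj GrpObj AlgebraicGeometry Limits
open Groth.Agent Groth.Agent.Sga3B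

namespace K11.PowMT

open K197.Isog TorsKit

variable {S : Scheme.{u}}

lemma DSmap_pow {N M : Type} [AddCommGroup N] [AddCommGroup M] (φ : N →+ M) (n : ℕ) :
    (Red.DSmap S φ) ^ n = Red.DSmap S (n • φ) := by
  induction n with
  | zero =>
    rw [pow_zero, K197.DSExact.DSmap_eq_one _ (fun m => by simp)]
  | succ n ih => rw [pow_succ, ih, DSmap_mul, succ_nsmul]

lemma id_pow (M : Type) [AddCommGroup M] (n : ℕ) :
    (𝟙 (Red.DS S M) : Red.DS S M ⟶ Red.DS S M) ^ n = Red.DSmap S (n • AddMonoidHom.id M) := by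
  rw [← DSmap_pow, BorSpan613.DSmap_id]

theorem isIsog_id_pow {M : Type} [AddCommGroup M] [Module.Finite ℤ M]
    (hM : ∀ (n : ℕ), 0 < n → ∀ m : M, n • m = 0 → m = 0) (n : ℕ) (hn : 0 < n) :
    IsIsog ((𝟙 (Red.DS S M) : Red.DS S M ⟶ Red.DS S M) ^ n).left := by
  rw [id_pow]
  refine isIsog_DSmap S _ ?_ fun m => ⟨n, by exact_mod_cast hn.ne', m, ?_⟩
  · rw [injective_iff_map_eq_zero]
    intro m hm
    exact hM n hn m (by simpa using hm)
  · simp

/-- the power map of a base change -/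
lemma map_pow {S' : Scheme.{u}} (v : S' ⟶ S) (T : Over S) [GrpObj T] (n : ℕ) :
    (Over.pullback v).map ((𝟙 T : T ⟶ T) ^ n) = (𝟙 (Red.bc v T) : Red.bc v T ⟶ Red.bc v T) ^ n := by
  induction n with
  | zero => rw [pow_zero, pow_zero, Functor.map_one]
  | succ n ih => rw [pow_succ, pow_succ, Functor.map_mul, ih, CategoryTheory.Functor.map_id]

/-- the power map is compatible with isomorphisms -/
lemma pow_iso {T T' : Over S} [GrpObj T] [GrpObj T'] (e : T ≅ T') [IsMonHom e.hom] (n : ℕ) :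
    (𝟙 T' : T' ⟶ T') ^ n = e.inv ≫ ((𝟙 T : T ⟶ T) ^ n) ≫ e.hom := by
  rw [MonObj.pow_comp, Category.id_comp, MonObj.comp_pow, e.inv_hom_id]

theorem prop_pow_iso {P : MorphismProperty Scheme.{u}} [P.RespectsIso] {T T' : Over S} [GrpObj T] [GrpObj T']
    (e : T ≅ T') [IsMonHom e.hom] (n : ℕ) (h : P ((𝟙 T : T ⟶ T) ^ n).left) : P ((𝟙 T' : T' ⟶ T') ^ n).left := by
  rw [pow_iso e n, Over.comp_left, Over.comp_left]
  exact (MorphismProperty.cancel_left_of_respectsIso P _ _).2 ((MorphismProperty.cancel_right_of_respectsIso P _ _).2 h)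

theorem isIsog_pow {T : Over S} [GrpObj T] (hT : Red.IsTorus T) (n : ℕ) (hn : 0 < n) :
    IsIsog ((𝟙 T : T ⟶ T) ^ n).left := by
  obtain ⟨S', f, hf, hs, hc, h⟩ := hT
  refine Sga3.H798.FpqcIso.prop_of_fpqc_cover IsIsog f hc _ fun s' => ?_
  obtain ⟨U, hU, r, ⟨e⟩⟩ := h s'
  refine ⟨U, hU, ?_⟩
  rw [map_pow]
  let e' : Red.DS (U : Scheme.{u}) (Fin r → ℤ) ≅ Red.bc (U.ι ≫ f) T := (Grp.forget _).mapIso e.symm
  have : IsMonHom e'.hom := inferInstanceAs (IsMonHom e.inv.hom.hom)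
  refine prop_pow_iso e' n (isIsog_id_pow (fun n hn m hm => ?_) n hn)
  funext i
  have := congrFun hm i
  simp only [Pi.smul_apply, nsmul_eq_mul, Pi.zero_apply] at this
  rcases mul_eq_zero.1 this with h | h
  · exact absurd (by exact_mod_cast h) hn.ne'
  · exact h

lemma pow_comp_DSmap (S : Scheme.{u}) {M N : Type} [AddCommGroup M] [AddCommGroup N] (φ : N →+ M) (n : ℕ) :
    ((𝟙 (Red.DS S M) : Red.DS S M ⟶ Red.DS S M) ^ n) ≫ Red.DSmap S φ = Red.DSmap S (n • φ) := by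
  have i1 := BorSpan613.isMonHom_DSmap S φ
  have h := MonObj.pow_comp (𝟙 (Red.DS S M)) n (Red.DSmap S φ)
  rw [h, Category.id_comp, DSmap_pow]

lemma eq_zero_of_epi {R : Type u} [CommRing R] [Nontrivial R] {M N : Type} [AddCommGroup M] [AddCommGroup N]
    (φ : N →+ M) (n : ℕ) (h : Epi ((𝟙 (Red.DS (Spec (.of R)) M) : Red.DS (Spec (.of R)) M ⟶ _) ^ n))
    (hφ : ∀ x, n • φ x = 0) : φ = 0 := by
  have h1 := pow_comp_DSmap (Spec (.of R)) φ n
  rw [K197.DSExact.DSmap_eq_one (n • φ) hφ] at h1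
  have h2 : Red.DSmap (Spec (.of R)) φ = 1 := by
    rw [← cancel_epi ((𝟙 (Red.DS (Spec (.of R)) M) : Red.DS (Spec (.of R)) M ⟶ _) ^ n), h1, MonObj.comp_one]
  apply K7.DSProp.DSmap_injective (R := R)
  rw [K197.DSExact.DSmap_eq_one (0 : N →+ M) (fun _ => rfl), h2]

/-- If the power `n` of `D(M)` over a non-empty base is an epimorphism, then `M` has no `n`-torsion. -/
theorem torsionFree_of_epi {R : Type u} [CommRing R] [Nontrivial R] {M : Type} [AddCommGroup M] (n : ℕ)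
    (h : Epi ((𝟙 (Red.DS (Spec (.of R)) M) : Red.DS (Spec (.of R)) M ⟶ _) ^ n)) (m : M) (hm : n • m = 0) :
    m = 0 := by
  have h1 := eq_zero_of_epi ((nsmulAddMonoidHom (α := M) n).ker.subtype) n h
    (fun x => AddMonoidHom.mem_ker.1 x.2)
  have h2 := DFunLike.congr_fun h1 (⟨m, AddMonoidHom.mem_ker.2 hm⟩ : (nsmulAddMonoidHom (α := M) n).ker)
  simpa only [AddSubgroup.subtype_apply, AddMonoidHom.zero_apply] using h2

lemma exists_point (X : Scheme.{u}) (x : X) : ∃ (K : Type u) (_ : Field K), Nonempty (Spec (CommRingCat.of K) ⟶ X) :=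
  ⟨X.residueField x, inferInstance, ⟨X.fromSpecResidueField x⟩⟩

lemma cov_of_bc_iso {T : Scheme.{u}} (g : T ⟶ S) {E : Over S} [GrpObj E] {D : Over T} [GrpObj D]
    (e : Grp.mk (Red.bc g E) ≅ Grp.mk D) (n : ℕ) (h : Cov ((𝟙 E : E ⟶ E) ^ n).left) :
    Cov ((𝟙 D : D ⟶ D) ^ n).left := by
  let e' : Red.bc g E ≅ D := (Grp.forget _).mapIso e
  have i' : IsMonHom e'.hom := inferInstanceAs (IsMonHom e.hom.hom.hom)
  refine prop_pow_iso e' n ?_
  rw [← map_pow]
  exact MorphismProperty.of_isPullback (Sga3.H798.FpqcIso.isPullback_map_left _ _) h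

lemma torsionFree_of_point (M : Type) [AddCommGroup M] {K : Type u} [Field K] (v : Spec (CommRingCat.of K) ⟶ S)
    (n : ℕ) (h : Cov ((𝟙 (Red.DS S M) : Red.DS S M ⟶ _) ^ n).left) (m : M) (hm : n • m = 0) : m = 0 :=
  torsionFree_of_epi (R := K) n (epi_of_cov (cov_of_bc_iso v (TorusAlgClosed.dsBcIso v M) n h)) m hm

lemma exists_iso_free (S : Scheme.{u}) (M : Type) [AddCommGroup M] [Module.Finite ℤ M]
    (hfree : ∀ (n : ℕ), 0 < n → ∀ m : M, n • m = 0 → m = 0) :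
    ∃ r : ℕ, Nonempty (Grp.mk (Red.DS S M) ≅ Grp.mk (Red.DS S (Fin r → ℤ))) := by
  have hfree' : Module.IsTorsionFree ℤ M := by
    refine ⟨fun z hz x y hxy => ?_⟩
    have hz' : z ≠ 0 := hz.ne_zero
    have h1 : z • (x - y) = 0 := by rw [smul_sub, sub_eq_zero]; exact hxy
    have h2 : z.natAbs • (x - y) = 0 := by
      rcases Int.natAbs_eq z with h | h
      · rw [h, natCast_zsmul] at h1; exact h1
      · rw [h, neg_smul, natCast_zsmul, neg_eq_zero] at h1; exact h1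
    exact sub_eq_zero.1 (hfree _ (Int.natAbs_pos.2 hz') _ h2)
  have : Module.Free ℤ M := Module.free_of_finite_type_torsion_free'
  let b := Module.finBasis ℤ M
  obtain ⟨E', -⟩ := BorSpan613.exists_iso_DS S b.equivFun.toAddEquiv
  exact ⟨Module.finrank ℤ M, ⟨E'.symm⟩⟩

theorem isTorus_of_cov {E : Over S} [GrpObj E] (hE : SGA3x.IsMultTypeFT E)
    (h : ∀ n : ℕ, 0 < n → Cov ((𝟙 E : E ⟶ E) ^ n).left) : Red.IsTorus E := by
  obtain ⟨S', f, hf, hs, hc, hE⟩ := hE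
  refine ⟨S', f, hf, hs, hc, fun s' => ?_⟩
  obtain ⟨U, hU, M, _, hM, ⟨e⟩⟩ := hE s'
  have hM' : Module.Finite ℤ M := Module.Finite.iff_addGroup_fg.2 hM
  obtain ⟨K, _, ⟨v⟩⟩ := exists_point (U : Scheme.{u}) ⟨s', hU⟩
  obtain ⟨r, ⟨e'⟩⟩ := exists_iso_free (U : Scheme.{u}) M fun n hn m hm =>
    torsionFree_of_point M v n (cov_of_bc_iso _ e n (h n hn)) m hm
  exact ⟨U, hU, r, ⟨e ≪≫ e'⟩⟩

end K11.PowMT
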