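import Groth.Agent.SGA3x.K11.RelDense
import Groth.Agent.Sga3C.QuotProps
import Groth.Agent.GIT.K686.Whisk
import Groth.Agent.Books.AntiAffine

/-!
# Extension of a rational homomorphism of group schemes (Weil)

`U ⊂ G` schematically dense relative to `S`, `G` flat and locally of finite presentation.
* `surjective_mulU`: `U × U ⟶ G` is surjective;
* `exists_hom`: a rational homomorphism defined on `U` extends to `G`.
-/

set_option autoImplicit false
set_option linter.dupNamespace false
universe u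
open CategoryTheory MonoidalCategory CartesianMonoidalCategory MonObj GrpObj AlgebraicGeometry Limits
open Groth.Agent.Sga3C.QuotProps K11.RelDense

namespace K11.RelDense

theorem RelDense.of_isPullback {X S T P : Scheme.{u}} {a : P ⟶ X} {b : P ⟶ T} {p : X ⟶ S} {g : T ⟶ S}
    (h : IsPullback a b p g) {U : X.Opens} (hU : RelDense p U) : RelDense b (a ⁻¹ᵁ U) := by
  intro T' t
  have h1 : IsPullback (pullback.fst b t ≫ a) (pullback.snd b t) p (t ≫ g) :=
    (IsPullback.of_hasPullback b t).flip.paste_vert h.flip |>.flip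
  have h2 := hU T' (t ≫ g)
  have h3 := Groth.Agent.Ega4late.H537.SchDensePull.isSchematicallyDense_preimage
    h1.isoPullback.hom _ h2
  rwa [← Scheme.Hom.comp_preimage, h1.isoPullback_hom_fst, Scheme.Hom.comp_preimage] at h3

theorem RelDense.exists_mem {X S : Scheme.{u}} {p : X ⟶ S} [Surjective p] {U : X.Opens}
    (hU : RelDense p U) (s : S) : ∃ x ∈ U, p x = s := by
  by_contra hne
  push Not at hne
  let i := S.fromSpecResidueField s
  have h1 := hU _ i
  have h2 : (pullback.fst p i) ⁻¹ᵁ U = ⊥ := by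
    rw [eq_bot_iff]
    intro z hz
    refine (hne (pullback.fst p i z) hz ?_).elim
    rw [← Scheme.Hom.comp_apply, pullback.condition, Scheme.Hom.comp_apply]
    exact S.fromSpecResidueField_apply s _
  obtain ⟨x, hx⟩ := p.surjective s
  obtain ⟨z, -, -⟩ := Scheme.Pullback.exists_preimage_pullback (f := p) (g := i) x
    (IsLocalRing.closedPoint _) (by rw [hx]; exact (S.fromSpecResidueField_apply s _).symm)
  have h3 := h1 ⊤
  rw [h2] at h3
  have h4 : Subsingleton Γ(pullback p i, ⊤ ⊓ ⊥) := by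
    rw [inf_bot_eq]
    infer_instance
  have h5 : Subsingleton Γ(pullback p i, ⊤) := h3.subsingleton
  have h6 : Nonempty ↥(⊤ : (pullback p i).Opens) := ⟨⟨z, trivial⟩⟩
  have h7 : Nontrivial Γ(pullback p i, ⊤) := inferInstance
  exact not_subsingleton _ h5

end K11.RelDense

namespace K11.WeilExt

variable {S : Scheme.{u}}

/-- flat and locally of finite presentation -/
abbrev FL : MorphismProperty Scheme.{u} := @Flat ⊓ @LocallyOfFinitePresentation

section

variable {C : Type*} [Category C] [CartesianMonoidalCategory C] {G T : C} [GrpObj G]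

/-- `(t, c) ↦ (t, β(t) c)` -/
def shearT (β : T ⟶ G) : T ⊗ G ≅ T ⊗ G where
  hom := lift (fst T G) ((fst T G ≫ β) * snd T G)
  inv := lift (fst T G) ((fst T G ≫ β)⁻¹ * snd T G)
  hom_inv_id := by
    apply CartesianMonoidalCategory.hom_ext
    · simp
    · simp only [comp_lift, lift_fst, lift_snd, comp_mul, comp_inv, Category.id_comp, lift_fst_assoc,
        inv_mul_cancel_left]
  inv_hom_id := by
    apply CartesianMonoidalCategory.hom_ext
    · simp
    · simp only [comp_lift, lift_fst, lift_snd, comp_mul, Category.id_comp, lift_fst_assoc,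
        mul_inv_cancel_left]

theorem shearT_fst (β : T ⟶ G) : (shearT β).hom ≫ fst T G = fst T G := lift_fst _ _

theorem shearT_comp (α β : T ⟶ G) : (shearT β).hom ≫ (α ▷ G) =
    lift (fst T G ≫ α) ((fst T G ≫ β) * snd T G) := by
  apply CartesianMonoidalCategory.hom_ext
  · rw [Category.assoc, whiskerRight_fst, ← Category.assoc, shearT_fst, lift_fst]
  · rw [Category.assoc, whiskerRight_snd, shearT, lift_snd, lift_snd]

end

variable {G : Over S} [GrpObj G]

theorem fl_iso_left {X Y : Over S} (e : X ≅ Y) : FL e.hom.left := by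
  have : IsIso e.hom.left := ((Over.forget S).mapIso e).isIso_hom
  exact ⟨inferInstance, inferInstance⟩

theorem fl_comp {X Y Z : Over S} {f : X ⟶ Y} {g : Y ⟶ Z} (hf : FL f.left) (hg : FL g.left) :
    FL (f ≫ g).left := by
  rw [Over.comp_left]
  exact FL.comp_mem _ _ hf hg

theorem fl_fst (X Y : Over S) (h : FL Y.hom) : FL (fst X Y).left := by
  change FL (pullback.fst X.hom Y.hom)
  exact MorphismProperty.pullback_fst _ _ h

theorem fl_snd (X Y : Over S) (h : FL X.hom) : FL (snd X Y).left := by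
  change FL (pullback.snd X.hom Y.hom)
  exact MorphismProperty.pullback_snd _ _ h

theorem fl_lift {T : Over S} (α β : T ⟶ G) (hα : FL α.left) :
    FL (lift (fst T G ≫ α) ((fst T G ≫ β) * snd T G)).left := by
  rw [← shearT_comp]
  exact fl_comp (fl_iso_left _) (MorphismProperty.of_isPullback (P := FL)
      (K686.Whisk.isPullback_whiskerRight_left α G).flip hα)

theorem mul_eq : μ[G] = fst G G * snd G G := by
  rw [Hom.mul_def, lift_fst_snd, Category.id_comp]

theorem fl_mul (h : FL G.hom) : FL (μ[G] : G ⊗ G ⟶ G).left := by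
  have h1 : μ[G] = (shearT (𝟙 G)).hom ≫ snd G G := by
    rw [shearT, lift_snd, Category.comp_id, mul_eq]
  rw [h1]
  exact fl_comp (fl_iso_left _) (fl_snd _ _ h)

set_option linter.unusedSectionVars false

section

variable {U : G.left.Opens} (jU : Over.mk (U.ι ≫ G.hom) ⟶ G) (hjU : jU.left = U.ι)

include hjU

theorem mono_jU : Mono jU := by
  have : Mono jU.left := by rw [hjU]; infer_instance
  exact Over.mono_of_mono_left jU

theorem fl_jU : FL jU.left := by
  rw [hjU]
  exact ⟨inferInstance, inferInstance⟩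

theorem exists_liftU {X : Over S} (g : X ⟶ G) (h : Set.range g.left ⊆ (U : Set G.left)) :
    ∃ c : X ⟶ Over.mk (U.ι ≫ G.hom), c ≫ jU = g := by
  have h1 : Set.range g.left ⊆ Set.range U.ι := by rwa [Scheme.Opens.range_ι]
  refine ⟨Over.homMk (IsOpenImmersion.lift U.ι g.left h1) ?_, ?_⟩
  · change _ ≫ U.ι ≫ G.hom = _
    rw [IsOpenImmersion.lift_fac_assoc, Over.w]
  · ext1
    rw [Over.comp_left, hjU]
    exact IsOpenImmersion.lift_fac _ _ _

theorem range_comp_jU {X : Over S} (c : X ⟶ Over.mk (U.ι ≫ G.hom)) (x : X.left) :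
    (c ≫ jU).left x ∈ U := by
  rw [Over.comp_left, hjU, Scheme.Hom.comp_apply]
  exact (c.left x).2

omit hjU in
/-- The multiplication `U × U ⟶ G`. -/
noncomputable def mulU : Over.mk (U.ι ≫ G.hom) ⊗ Over.mk (U.ι ≫ G.hom) ⟶ G :=
  (fst _ _ ≫ jU) * (snd _ _ ≫ jU)

omit hjU in
theorem comp_mulU {X : Over S} (x : X ⟶ Over.mk (U.ι ≫ G.hom) ⊗ Over.mk (U.ι ≫ G.hom)) :
    x ≫ mulU jU = ((x ≫ fst _ _) ≫ jU) * ((x ≫ snd _ _) ≫ jU) := by
  rw [mulU, comp_mul, Category.assoc, Category.assoc]

theorem fl_mulU (hG : FL G.hom) : FL (mulU jU).left := by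
  have h1 : mulU jU = (jU ⊗ₘ jU) ≫ μ[G] := by
    rw [mulU, mul_eq, comp_mul, tensorHom_fst, tensorHom_snd]
  rw [h1]
  exact fl_comp (tensorHom_left_of FL jU jU (fl_jU jU hjU) (fl_jU jU hjU)) (fl_mul hG)

omit hjU in
/-- `(g, x) ↦ (g, x⁻¹ g)` -/
noncomputable def divIso (G : Over S) [GrpObj G] : G ⊗ G ≅ G ⊗ G where
  hom := lift (fst G G) ((snd G G)⁻¹ * fst G G)
  inv := lift (fst G G) (fst G G * (snd G G)⁻¹)
  hom_inv_id := by
    apply CartesianMonoidalCategory.hom_ext
    · simp
    · simp only [comp_lift, lift_fst, lift_snd, comp_mul, comp_inv, Category.id_comp, _root_.mul_inv_rev,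
        _root_.inv_inv, mul_inv_cancel_left]
  inv_hom_id := by
    apply CartesianMonoidalCategory.hom_ext
    · simp
    · simp only [comp_lift, lift_fst, lift_snd, comp_mul, comp_inv, Category.id_comp, _root_.mul_inv_rev,
        _root_.inv_inv, inv_mul_cancel_right]

omit hjU in
theorem surjective_hom (G : Over S) [GrpObj G] : Surjective G.hom := by
  have h : (η[G] : 𝟙_ (Over S) ⟶ G).left ≫ G.hom = 𝟙 S := Over.w (η[G] : 𝟙_ (Over S) ⟶ G)
  have : Surjective ((η[G] : 𝟙_ (Over S) ⟶ G).left ≫ G.hom) := by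
    rw [h]
    exact ⟨fun x => ⟨x, rfl⟩⟩
  exact Surjective.of_comp (η[G] : 𝟙_ (Over S) ⟶ G).left G.hom

theorem surjective_mulU (hU : RelDense G.hom U) : Surjective (mulU jU).left := by
  refine ⟨fun g => ?_⟩
  have hp : IsPullback (snd G G).left (fst G G).left G.hom G.hom :=
    (IsPullback.of_hasPullback G.hom G.hom).flip
  have h1 : RelDense (fst G G).left ((snd G G).left ⁻¹ᵁ U) := RelDense.of_isPullback hp hU
  let s2 : G ⊗ G ⟶ G := (snd G G)⁻¹ * fst G G
  have h2 : RelDense (fst G G).left (s2.left ⁻¹ᵁ U) := by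
    have he1 : (divIso G).hom ≫ snd G G = s2 := lift_snd _ _
    have he2 : (divIso G).hom ≫ fst G G = fst G G := lift_fst _ _
    have : Flat (divIso G).hom.left := (fl_iso_left _).1
    have : LocallyOfFinitePresentation (divIso G).hom.left := (fl_iso_left _).2
    have h3 := h1.preimage (divIso G).hom.left (fst G G).left (by rw [← Over.comp_left, he2])
    rwa [← Scheme.Hom.comp_preimage, ← Over.comp_left, he1] at h3
  have := surjective_hom G
  have hs : Surjective (fst G G).left := MorphismProperty.of_isPullback (P := @Surjective) hp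
    inferInstance
  obtain ⟨w, hw, hwg⟩ := (h1.inf h2).exists_mem g
  let W : (G ⊗ G).left.Opens := (snd G G).left ⁻¹ᵁ U ⊓ s2.left ⁻¹ᵁ U
  let Wo : Over S := Over.mk (W.ι ≫ (G ⊗ G).hom)
  let k : Wo ⟶ G ⊗ G := Over.homMk W.ι rfl
  obtain ⟨a, ha⟩ := exists_liftU jU hjU (k ≫ snd G G) (by
    rintro _ ⟨z, rfl⟩
    exact z.2.1)
  obtain ⟨b, hb⟩ := exists_liftU jU hjU (k ≫ s2) (by
    rintro _ ⟨z, rfl⟩
    exact z.2.2)
  have hab : lift a b ≫ mulU jU = k ≫ fst G G := by
    rw [comp_mulU, lift_fst, lift_snd, ha, hb, ← comp_mul]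
    congr 1
    exact mul_inv_cancel_left _ _
  refine ⟨(lift a b).left ⟨w, hw⟩, ?_⟩
  rw [← Scheme.Hom.comp_apply, ← Over.comp_left, hab]
  exact hwg

end

end K11.WeilExt
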